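import Mathlib

/-!
M. Hall's product formula for Sylow numbers and its consequences: the number of Sylow
`p`-subgroups is a product of prime powers congruent to 1 mod `p` and of Sylow numbers of
simple groups.
-/

set_option autoImplicit false
set_option linter.style.haveILetI false
open scoped Pointwise

namespace CfsgLib.SylowNumber

universe u

variable {G : Type*} [Group G] [Finite G]

theorem relIndex_sup_eq_relIndex (H K : Subgroup G) [K.Normal] :
    H.relIndex (H ⊔ K) = H.relIndex K := by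
  have hK : Nat.card ↥(H ⊔ K) = Nat.card K * K.relIndex (H ⊔ K) := by
    rw [← Subgroup.card_mul_index (K.subgroupOf (H ⊔ K)),
      Nat.card_congr (Subgroup.subgroupOfEquivOfLe (le_sup_right : K ≤ H ⊔ K)).toEquiv]; rfl
  have hH' : Nat.card ↥(H ⊔ K) = Nat.card H * H.relIndex (H ⊔ K) := by
    rw [← Subgroup.card_mul_index (H.subgroupOf (H ⊔ K)),
      Nat.card_congr (Subgroup.subgroupOfEquivOfLe (le_sup_left : H ≤ H ⊔ K)).toEquiv]; rfl
  have hI1 : Nat.card K = Nat.card ↥(H ⊓ K) * H.relIndex K := by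
    rw [← Subgroup.card_mul_index (H.subgroupOf K)]
    congr 1
    rw [← Subgroup.inf_subgroupOf_right]
    exact Nat.card_congr (Subgroup.subgroupOfEquivOfLe inf_le_right).toEquiv
  have hI2 : Nat.card H = Nat.card ↥(H ⊓ K) * K.relIndex H := by
    rw [← Subgroup.card_mul_index (K.subgroupOf H)]
    congr 1
    rw [← Subgroup.inf_subgroupOf_right, inf_comm K H]
    exact Nat.card_congr (Subgroup.subgroupOfEquivOfLe inf_le_left).toEquiv
  rw [Subgroup.relIndex_sup_right] at hK
  have hpos : 0 < Nat.card H := Nat.card_pos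
  apply Nat.eq_of_mul_eq_mul_left hpos
  rw [← hH', hK, hI1, hI2]; ring

/-- If `Y ≤ M ≤ Y ⊔ A` with `A` normal, then `|M : Y| = |A ⊓ M : Y ⊓ A|`. -/
theorem relIndex_eq_relIndex_inf {A Y M : Subgroup G} [A.Normal] (hYM : Y ≤ M) (hM : M ≤ Y ⊔ A) :
    Y.relIndex M = Y.relIndex (A ⊓ M) := by
  haveI : (A.subgroupOf M).Normal := Subgroup.Normal.comap ‹A.Normal› M.subtype
  have htop : Y.subgroupOf M ⊔ A.subgroupOf M = ⊤ := by
    rw [eq_top_iff]
    rintro ⟨m, hm⟩ -
    obtain ⟨y, hy, a, ha, rfl⟩ := Subgroup.mem_sup_of_normal_right.1 (hM hm)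
    have ham : a ∈ M := by
      have := M.mul_mem (M.inv_mem (hYM hy)) hm
      rwa [inv_mul_cancel_left] at this
    have h1 : (⟨y, hYM hy⟩ : M) * ⟨a, ham⟩ ∈ Y.subgroupOf M ⊔ A.subgroupOf M :=
      Subgroup.mul_mem_sup (S := Y.subgroupOf M) (T := A.subgroupOf M) (x := ⟨y, hYM hy⟩) (y := ⟨a, ham⟩) hy ha
    exact h1
  calc Y.relIndex M = (Y.subgroupOf M).relIndex ⊤ := (Subgroup.relIndex_top_right _).symm
    _ = (Y.subgroupOf M).relIndex (A.subgroupOf M) := by rw [← htop, relIndex_sup_eq_relIndex]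
    _ = Y.relIndex ((A.subgroupOf M).map M.subtype) := Subgroup.relIndex_comap ..
    _ = Y.relIndex (A ⊓ M) := by rw [Subgroup.subgroupOf_map_subtype]

variable {p : ℕ} [Fact p.Prime]

theorem card_sylow_eq_relIndex (H : Subgroup G) (Q : Sylow p H) :
    Nat.card (Sylow p H) =
      (Subgroup.normalizer (((Q : Subgroup H).map H.subtype : Subgroup G) : Set G)).relIndex H := by
  rw [Sylow.card_eq_index_normalizer Q, Subgroup.relIndex]
  congr 1
  rw [Subgroup.subgroupOf, Subgroup.comap_normalizer_eq_of_le_range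
      ((Subgroup.map_le_range _ _)),
    Subgroup.comap_map_eq_self_of_injective H.subtype_injective, Sylow.coe_coe]

/-- For a normal subgroup `K`, the intersection of a Sylow subgroup with `K` is Sylow in `K`. -/
theorem exists_sylow_map_eq_inf (P : Sylow p G) (K : Subgroup G) [K.Normal] :
    ∃ Q : Sylow p K, (Q : Subgroup K).map K.subtype = (P : Subgroup G) ⊓ K := by
  have hp : IsPGroup p ((P : Subgroup G).subgroupOf K) :=
    P.2.comap_of_injective K.subtype K.subtype_injective
  have hindex : ¬ p ∣ ((P : Subgroup G).subgroupOf K).index := by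
    intro h
    refine P.not_dvd_index (h.trans ?_)
    change (P : Subgroup G).relIndex K ∣ _
    rw [← relIndex_sup_eq_relIndex]
    exact Subgroup.relIndex_dvd_index_of_le le_sup_left
  exact ⟨hp.toSylow hindex, by rw [IsPGroup.toSylow_coe, Subgroup.subgroupOf_map_subtype]⟩

omit [Finite G] [Fact p.Prime] in
theorem normalizer_le_normalizer_inf (P K : Subgroup G) [K.Normal] :
    Subgroup.normalizer (P : Set G) ≤ Subgroup.normalizer ((P ⊓ K : Subgroup G) : Set G) := by
  intro g hg
  rw [Subgroup.mem_normalizer_iff] at hg ⊢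
  intro h
  rw [Subgroup.mem_inf, Subgroup.mem_inf, ← hg h]
  constructor
  · rintro ⟨h1, h2⟩; exact ⟨h1, ‹K.Normal›.conj_mem h h2 g⟩
  · rintro ⟨h1, h2⟩
    refine ⟨h1, ?_⟩
    have := ‹K.Normal›.conj_mem _ h2 g⁻¹
    simpa [mul_assoc] using this

/-- Frattini argument for the product of a Sylow subgroup and a normal subgroup. -/
theorem normalizer_sup_eq (P : Sylow p G) (K : Subgroup G) [K.Normal] :
    Subgroup.normalizer (((P : Subgroup G) ⊔ K : Subgroup G) : Set G) =
      Subgroup.normalizer ((P : Subgroup G) : Set G) ⊔ K := by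
  apply le_antisymm
  · intro g hg
    have hQ : ((g • P : Sylow p G) : Subgroup G) ≤ (P : Subgroup G) ⊔ K := by
      rw [Sylow.coe_subgroup_smul]
      intro y hy
      obtain ⟨z, hz, rfl⟩ := Subgroup.mem_map.1 hy
      exact (Subgroup.mem_normalizer_iff.1 hg z).1 (Subgroup.mem_sup_left hz)
    obtain ⟨k, hk⟩ := MulAction.exists_smul_eq ↥((P : Subgroup G) ⊔ K)
      (P.subtype le_sup_left) ((g • P).subtype hQ)
    rw [Sylow.smul_subtype] at hk
    have hk' := Sylow.subtype_injective hk
    have h1 : (k : G)⁻¹ * g ∈ Subgroup.normalizer ((P : Subgroup G) : Set G) := by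
      rw [Sylow.coe_coe]
      apply Sylow.smul_eq_iff_mem_normalizer.1
      rw [mul_smul, ← hk', Subgroup.smul_def, inv_smul_smul]
    have h2 : (k : G) ∈ Subgroup.normalizer ((P : Subgroup G) : Set G) ⊔ K :=
      sup_le_sup_right Subgroup.le_normalizer K k.2
    have := mul_mem h2 (Subgroup.mem_sup_left (T := K) h1)
    rwa [mul_inv_cancel_left] at this
  · refine sup_le ?_ (le_sup_right.trans Subgroup.le_normalizer)
    intro g hg
    rw [Subgroup.mem_normalizer_iff] at hg ⊢
    have key : ∀ a : G, (∀ z, z ∈ (P : Subgroup G) → a * z * a⁻¹ ∈ (P : Subgroup G)) →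
        ∀ y ∈ (P : Subgroup G) ⊔ K, a * y * a⁻¹ ∈ (P : Subgroup G) ⊔ K := by
      intro a ha y hy
      obtain ⟨z, hz, k, hk, rfl⟩ := Subgroup.mem_sup_of_normal_right.1 hy
      rw [show a * (z * k) * a⁻¹ = (a * z * a⁻¹) * (a * k * a⁻¹) by group]
      exact Subgroup.mul_mem_sup (ha z hz) (‹K.Normal›.conj_mem k hk a)
    intro y
    refine ⟨key g (fun z hz => (hg z).1 hz) y, fun hy => ?_⟩
    have := key g⁻¹ (fun z hz => (hg _).2 (by simpa [mul_assoc] using hz)) _ hy
    simpa [mul_assoc] using this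

/-- A normal `p`-subgroup can be factored out without changing the Sylow number. -/
theorem card_sylow_quotient_of_isPGroup (D : Subgroup G) [D.Normal] (hD : IsPGroup p D) :
    Nat.card (Sylow p (G ⧸ D)) = Nat.card (Sylow p G) := by
  have hf : Function.Surjective (QuotientGroup.mk' D) := QuotientGroup.mk'_surjective _
  symm
  apply Nat.card_eq_of_bijective (fun P : Sylow p G => P.mapSurjective hf)
  refine ⟨fun P Q h => ?_, Sylow.mapSurjective_surjective hf p⟩
  have h' : (P : Subgroup G).map (QuotientGroup.mk' D) = (Q : Subgroup G).map (QuotientGroup.mk' D) :=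
    congrArg Sylow.toSubgroup h
  rw [Subgroup.map_eq_map_iff, QuotientGroup.ker_mk',
    sup_eq_left.2 (hD.le_sylow_of_normal P), sup_eq_left.2 (hD.le_sylow_of_normal Q)] at h'
  exact Sylow.ext h'

theorem card_sylow_quotient (P : Sylow p G) (K : Subgroup G) [K.Normal] :
    Nat.card (Sylow p (G ⧸ K)) =
      (Subgroup.normalizer ((P : Subgroup G) : Set G) ⊔ K).index := by
  rw [Sylow.card_eq_index_normalizer (P.mapSurjective (QuotientGroup.mk'_surjective K)),
    ← normalizer_sup_eq P K,
    ← Subgroup.index_comap_of_surjective _ (QuotientGroup.mk'_surjective K),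
    ← Sylow.coe_coe, Sylow.coe_mapSurjective,
    Subgroup.comap_normalizer_eq_of_surjective _ (QuotientGroup.mk'_surjective K),
    Subgroup.comap_map_eq, QuotientGroup.ker_mk']

/-- The product formula, with `N` in place of its quotient by `P ⊓ K`. -/
theorem card_sylow_eq_mul (P : Sylow p G) (K : Subgroup G) [K.Normal] :
    Nat.card (Sylow p G) = Nat.card (Sylow p (G ⧸ K)) * Nat.card (Sylow p K) *
      Nat.card (Sylow p ↥(((P : Subgroup G) ⊔ K) ⊓
        Subgroup.normalizer (((P : Subgroup G) ⊓ K : Subgroup G) : Set G))) := by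
  have hNPD := normalizer_le_normalizer_inf (P : Subgroup G) K
  set NP := Subgroup.normalizer ((P : Subgroup G) : Set G) with hNP
  set ND := Subgroup.normalizer (((P : Subgroup G) ⊓ K : Subgroup G) : Set G) with hND
  set N := ((P : Subgroup G) ⊔ K) ⊓ ND with hN
  have hPN : (P : Subgroup G) ≤ N := le_inf le_sup_left (Subgroup.le_normalizer.trans hNPD)
  obtain ⟨Q, hQ⟩ := exists_sylow_map_eq_inf P K
  have e1 : Nat.card (Sylow p K) = ND.relIndex K := by
    rw [card_sylow_eq_relIndex K Q, hQ]
  have e2 : Nat.card (Sylow p N) = NP.relIndex (ND ⊓ K) := by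
    rw [card_sylow_eq_relIndex N (P.subtype hPN), Sylow.coe_subtype,
      Subgroup.map_subgroupOf_eq_of_le hPN]
    change NP.relIndex N = _
    rw [← Subgroup.inf_relIndex_right NP N,
      relIndex_eq_relIndex_inf (A := K) (inf_le_right : NP ⊓ N ≤ N)
        (inf_le_left.trans (sup_le_sup_right (le_inf Subgroup.le_normalizer hPN) K))]
    have h1 : K ⊓ N = ND ⊓ K := by
      rw [hN, ← inf_assoc, inf_eq_left.2 (le_sup_right : K ≤ (P : Subgroup G) ⊔ K), inf_comm]
    rw [← Subgroup.inf_relIndex_right, inf_assoc, inf_eq_right.2 (inf_le_right : K ⊓ N ≤ N),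
      Subgroup.inf_relIndex_right, h1]
  rw [card_sylow_quotient P K, e1, e2, Sylow.card_eq_index_normalizer P, ← Sylow.coe_coe, ← hNP,
    ← Subgroup.relIndex_mul_index (le_sup_left : NP ≤ NP ⊔ K), relIndex_sup_eq_relIndex,
    ← Subgroup.inf_relIndex_right NP K,
    ← Subgroup.relIndex_mul_relIndex (NP ⊓ K) (ND ⊓ K) K (inf_le_inf_right K hNPD) inf_le_right,
    Subgroup.inf_relIndex_right ND K]
  have h2 : (NP ⊓ K).relIndex (ND ⊓ K) = NP.relIndex (ND ⊓ K) := by
    rw [← Subgroup.inf_relIndex_right, inf_assoc, inf_eq_right.2 (inf_le_right : ND ⊓ K ≤ K),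
      Subgroup.inf_relIndex_right]
  rw [h2]; ring

/-- In a group `P ⋉ L` with `L` of order prime to `p`, every prime-power part of the number of
Sylow `p`-subgroups is congruent to 1 mod `p`. -/
theorem primePart_modEq_one {M : Type*} [Group M] [Finite M] (L : Subgroup M) [L.Normal]
    (hL : ¬ p ∣ Nat.card L) (P : Sylow p M) (hPL : (P : Subgroup M) ⊔ L = ⊤) (ℓ : ℕ) (hℓ : ℓ.Prime) :
    ℓ ^ (Nat.card (Sylow p M)).factorization ℓ ≡ 1 [MOD p] := by
  classical
  haveI := Fact.mk hℓ
  set NP := Subgroup.normalizer ((P : Subgroup M) : Set M) with hNP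
  set C := NP ⊓ L with hC
  have hn : Nat.card (Sylow p M) = NP.relIndex L := by
    rw [Sylow.card_eq_index_normalizer P, ← Sylow.coe_coe, ← hNP, ← Subgroup.relIndex_top_right,
      relIndex_eq_relIndex_inf (A := L) le_top
        (hPL.ge.trans (sup_le_sup_right Subgroup.le_normalizer L)), inf_top_eq]
  have hcardL : Nat.card L = Nat.card C * Nat.card (Sylow p M) := by
    rw [hn, ← Subgroup.card_mul_index (NP.subgroupOf L)]
    congr 1
    rw [← Subgroup.inf_subgroupOf_right]
    exact Nat.card_congr (Subgroup.subgroupOfEquivOfLe inf_le_right).toEquiv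
  by_cases hℓp : ℓ = p
  · subst hℓp
    rw [Nat.factorization_eq_zero_of_not_dvd
      (fun h => hL (hcardL ▸ dvd_mul_of_dvd_right h _)), pow_zero]
  -- `C` centralizes `P`
  have hcent : C ≤ Subgroup.centralizer ((P : Subgroup M) : Set M) := by
    intro c hc
    rw [Subgroup.mem_centralizer_iff]
    intro z hz
    have h1 : c * z * c⁻¹ * z⁻¹ ∈ (P : Subgroup M) :=
      mul_mem ((Subgroup.mem_normalizer_iff.1 hc.1 z).1 hz) (inv_mem hz)
    have h2 : c * z * c⁻¹ * z⁻¹ ∈ L := by
      rw [show c * z * c⁻¹ * z⁻¹ = c * (z * c⁻¹ * z⁻¹) by group]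
      exact mul_mem hc.2 (‹L.Normal›.conj_mem _ (inv_mem hc.2) z)
    have h3 : c * z * c⁻¹ * z⁻¹ = 1 := by
      obtain ⟨k, hk⟩ := IsPGroup.iff_orderOf.1 P.2 ⟨_, h1⟩
      rw [Subgroup.orderOf_mk] at hk
      have hd := L.orderOf_dvd_natCard h2
      rw [hk] at hd
      have : k = 0 := by
        by_contra hk0
        exact hL ((dvd_pow_self p hk0).trans hd)
      rwa [this, pow_zero, orderOf_eq_one_iff] at hk
    rw [mul_inv_eq_one, mul_inv_eq_iff_eq_mul] at h3
    exact h3.symm
  -- a maximal `P`-invariant `ℓ`-subgroup of `L` above a Sylow `ℓ`-subgroup of `C`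
  obtain ⟨D, hD⟩ := Sylow.exists_subgroup_card_pow_prime (G := C) ℓ
    (Nat.ordProj_dvd (Nat.card C) ℓ)
  set D' := D.map C.subtype with hD'
  have hD'card : Nat.card D' = ℓ ^ (Nat.card C).factorization ℓ := by
    rw [hD', Subgroup.card_map_of_injective C.subtype_injective, hD]
  have hD'C : D' ≤ C := Subgroup.map_subtype_le D
  let S : Set (Subgroup M) := {U | IsPGroup ℓ U ∧ U ≤ L ∧ D' ≤ U ∧
    (P : Subgroup M) ≤ Subgroup.normalizer (U : Set M)}
  have hDS : D' ∈ S := by
    refine ⟨IsPGroup.of_card hD'card, hD'C.trans inf_le_right, le_rfl, ?_⟩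
    intro z hz
    rw [Subgroup.mem_normalizer_iff]
    intro d
    have hfix : ∀ e ∈ D', z * e = e * z := fun e he =>
      Subgroup.mem_centralizer_iff.1 (hcent (hD'C he)) z hz
    constructor
    · intro hd
      rwa [hfix d hd, mul_inv_cancel_right]
    · intro hd
      have := hfix _ hd
      have e2 : z * d * z⁻¹ = d := by
        apply mul_left_cancel (a := z)
        rw [this]; group
      rwa [e2] at hd
  obtain ⟨M0, hM0max⟩ := Set.Finite.exists_maximal (Set.toFinite S) ⟨D', hDS⟩
  obtain ⟨hM0ℓ, hM0L, hDM0, hPM0⟩ := hM0max.1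
  have hM0card : Nat.card M0 = ℓ ^ (Nat.card L).factorization ℓ := by
    obtain ⟨m, hm⟩ := IsPGroup.iff_card.1 hM0ℓ
    have hmle : m ≤ (Nat.card L).factorization ℓ :=
      (hℓ.pow_dvd_iff_le_factorization Nat.card_pos.ne').1 (hm ▸ Subgroup.card_dvd_of_le hM0L)
    rcases eq_or_lt_of_le hmle with rfl | hlt
    · exact hm
    exfalso
    set H := Subgroup.normalizer (M0 : Set M) ⊓ L with hH
    have hcard0 : Nat.card (M0.subgroupOf L) = ℓ ^ m := by
      rw [Nat.card_congr (Subgroup.subgroupOfEquivOfLe hM0L).toEquiv, hm]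
    have hdvd : ℓ ^ (m + 1) ∣ Nat.card H := by
      have h1 := Sylow.prime_pow_dvd_card_normalizer
        ((hℓ.pow_dvd_iff_le_factorization Nat.card_pos.ne').2 hlt) hcard0
      have h2 : Subgroup.normalizer ((M0.subgroupOf L : Subgroup L) : Set L) = H.subgroupOf L := by
        rw [hH, Subgroup.inf_subgroupOf_right]
        exact (Subgroup.comap_normalizer_eq_of_le_range
          (by rwa [Subgroup.range_subtype])).symm
      rw [h2, Nat.card_congr (Subgroup.subgroupOfEquivOfLe inf_le_right).toEquiv] at h1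
      exact h1
    have hPH : (P : Subgroup M) ≤ Subgroup.normalizer (H : Set M) := by
      intro z hz
      rw [Subgroup.mem_normalizer_iff]
      intro h
      have hzN := hPM0 hz
      rw [hH, Subgroup.mem_inf, Subgroup.mem_inf]
      constructor
      · rintro ⟨h1, h2⟩
        exact ⟨mul_mem (mul_mem hzN h1) (inv_mem hzN), ‹L.Normal›.conj_mem h h2 z⟩
      · rintro ⟨h1, h2⟩
        have e : h = z⁻¹ * (z * h * z⁻¹) * z := by group
        refine ⟨e ▸ mul_mem (mul_mem (inv_mem hzN) h1) hzN, ?_⟩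
        have := ‹L.Normal›.conj_mem _ h2 z⁻¹
        rwa [inv_inv, ← e] at this
    letI act : MulDistribMulAction (P : Subgroup M) H :=
      MulDistribMulAction.compHom _ ((H.normalizerMonoidHom).comp (Subgroup.inclusion hPH))
    have hnd : ¬ p ∣ Nat.card (Sylow ℓ H) := by
      intro h
      obtain ⟨R⟩ := (inferInstance : Nonempty (Sylow ℓ H))
      have h1 := h.trans (R.card_dvd_index)
      exact hL (h1.trans ((Subgroup.index_dvd_card _).trans
        (Subgroup.card_dvd_of_le inf_le_right)))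
    obtain ⟨R, hR⟩ := P.2.nonempty_fixed_point_of_prime_not_dvd_card (Sylow ℓ H) hnd
    set R' := (R : Subgroup H).map H.subtype with hR'
    have hM0H : M0 ≤ H := le_inf Subgroup.le_normalizer hM0L
    have hM0R : M0 ≤ R' := by
      haveI : (M0.subgroupOf H).Normal :=
        Subgroup.normal_subgroupOf_of_le_normalizer inf_le_left
      have h1 := (hM0ℓ.of_equiv (Subgroup.subgroupOfEquivOfLe hM0H).symm).le_sylow_of_normal R
      intro y hy
      exact ⟨⟨y, hM0H hy⟩, h1 hy, rfl⟩
    have hRS : R' ∈ S := by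
      refine ⟨R.2.map _, (Subgroup.map_subtype_le _).trans inf_le_right, hDM0.trans hM0R, ?_⟩
      have key : ∀ z ∈ (P : Subgroup M), ∀ y ∈ R', z * y * z⁻¹ ∈ R' := by
        rintro z hz y ⟨r, hr, rfl⟩
        have h1 := congrArg Sylow.toSubgroup (hR ⟨z, hz⟩)
        have h2 : (⟨z, hz⟩ : (P : Subgroup M)) • r ∈ (R : Subgroup H) := by
          have := Subgroup.smul_mem_pointwise_smul r (⟨z, hz⟩ : (P : Subgroup M)) _ hr
          rwa [← Sylow.pointwise_smul_def, h1] at this
        exact ⟨_, h2, rfl⟩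
      intro z hz
      rw [Subgroup.mem_normalizer_iff]
      intro y
      refine ⟨key z hz y, fun hy => ?_⟩
      have := key z⁻¹ (inv_mem hz) _ hy
      simpa [mul_assoc] using this
    have hle := hM0max.2 hRS hM0R
    have h1 : Nat.card R' = ℓ ^ (Nat.card H).factorization ℓ := by
      rw [hR', Subgroup.card_map_of_injective H.subtype_injective, Sylow.card_eq_multiplicity]
    have h2 := Subgroup.card_dvd_of_le hle
    rw [h1, hm] at h2
    have h3 := (Nat.pow_dvd_pow_iff_le_right hℓ.one_lt).1 h2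
    have h4 := (hℓ.pow_dvd_iff_le_factorization Nat.card_pos.ne').1 hdvd
    omega
  -- counting fixed points of `P` on `M0`
  set C0 := M0 ⊓ Subgroup.centralizer ((P : Subgroup M) : Set M) with hC0
  have hC0C : C0 ≤ C := by
    refine le_inf ?_ (inf_le_left.trans hM0L)
    exact inf_le_right.trans (Subgroup.centralizer_le_normalizer _)
  have hC0card : Nat.card C0 = ℓ ^ (Nat.card C).factorization ℓ := by
    obtain ⟨j, hj⟩ := IsPGroup.iff_card.1 (hM0ℓ.to_le (inf_le_left : C0 ≤ M0))
    have h1 := (hℓ.pow_dvd_iff_le_factorization Nat.card_pos.ne').1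
      (hj ▸ Subgroup.card_dvd_of_le hC0C)
    have h2 : D' ≤ C0 := le_inf hDM0 (hD'C.trans hcent)
    have h3 := Subgroup.card_dvd_of_le h2
    rw [hD'card, hj] at h3
    have h4 := (Nat.pow_dvd_pow_iff_le_right hℓ.one_lt).1 h3
    rw [hj, le_antisymm h1 h4]
  letI act0 : MulDistribMulAction (P : Subgroup M) M0 :=
    MulDistribMulAction.compHom _ ((M0.normalizerMonoidHom).comp (Subgroup.inclusion hPM0))
  have hfix : Nat.card (MulAction.fixedPoints (P : Subgroup M) M0) = Nat.card C0 := by
    refine Nat.card_congr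
      { toFun := fun y => ⟨(y.1 : M), y.1.2, Subgroup.mem_centralizer_iff.2 fun z hz => ?_⟩
        invFun := fun y => ⟨⟨(y : M), y.2.1⟩, fun z => ?_⟩
        left_inv := fun y => rfl
        right_inv := fun y => rfl }
    · have h1 : z * (y.1 : M) * z⁻¹ = (y.1 : M) :=
        congrArg (fun w : M0 => (w : M)) (y.2 ⟨z, hz⟩)
      rwa [mul_inv_eq_iff_eq_mul] at h1
    · apply Subtype.ext
      change (z : M) * (y : M) * (z : M)⁻¹ = (y : M)
      rw [Subgroup.mem_centralizer_iff.1 y.2.2 z z.2, mul_inv_cancel_right]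
  have hmod := P.2.card_modEq_card_fixedPoints M0
  rw [hfix, hM0card, hC0card, hcardL, Nat.factorization_mul Nat.card_pos.ne' Nat.card_pos.ne',
    Finsupp.add_apply, pow_add] at hmod
  have hcop : Nat.Coprime p (ℓ ^ (Nat.card C).factorization ℓ) :=
    ((Nat.coprime_primes Fact.out hℓ).2 (Ne.symm hℓp)).pow_right _
  exact Nat.ModEq.cancel_left_of_coprime hcop (by rwa [mul_one])

theorem factor_modEq_one (P : Sylow p G) (K : Subgroup G) [K.Normal] (ℓ : ℕ) (hℓ : ℓ.Prime) :
    ℓ ^ (Nat.card (Sylow p ↥(((P : Subgroup G) ⊔ K) ⊓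
        Subgroup.normalizer (((P : Subgroup G) ⊓ K : Subgroup G) : Set G)))).factorization ℓ
      ≡ 1 [MOD p] := by
  set D := (P : Subgroup G) ⊓ K with hD
  set N := ((P : Subgroup G) ⊔ K) ⊓ Subgroup.normalizer (D : Set G) with hN
  haveI : (D.subgroupOf N).Normal := Subgroup.normal_subgroupOf_of_le_normalizer inf_le_right
  have hPN : (P : Subgroup G) ≤ N :=
    le_inf le_sup_left (Subgroup.le_normalizer.trans (normalizer_le_normalizer_inf _ K))
  have hDN : D ≤ N := inf_le_left.trans hPN
  have hDp : IsPGroup p (D.subgroupOf N) :=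
    (P.2.to_le inf_le_left).of_equiv (Subgroup.subgroupOfEquivOfLe hDN).symm
  rw [← card_sylow_quotient_of_isPGroup (D.subgroupOf N) hDp]
  haveI : (K.subgroupOf N).Normal := Subgroup.Normal.comap ‹K.Normal› N.subtype
  set f := QuotientGroup.mk' (D.subgroupOf N) with hf
  have hfs : Function.Surjective f := QuotientGroup.mk'_surjective _
  haveI : ((K.subgroupOf N).map f).Normal := Subgroup.Normal.map inferInstance f hfs
  refine primePart_modEq_one ((K.subgroupOf N).map f) ?_ ((P.subtype hPN).mapSurjective hfs) ?_ ℓ hℓ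
  · intro h
    have hle : D.subgroupOf N ≤ K.subgroupOf N := Subgroup.comap_mono inf_le_right
    have h1 : Nat.card ((K.subgroupOf N).map f) = D.relIndex (K ⊓ N) := by
      have e : (K.subgroupOf N).map f = (f.comp (K.subgroupOf N).subtype).range := by
        rw [MonoidHom.range_comp, Subgroup.range_subtype]
      rw [e, ← Subgroup.index_ker, ← MonoidHom.comap_ker]
      rw [hf, QuotientGroup.ker_mk']
      change (D.subgroupOf N).relIndex (K.subgroupOf N) = _
      rw [Subgroup.subgroupOf, Subgroup.relIndex_comap, Subgroup.subgroupOf_map_subtype]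
    have h2 : D.relIndex (K ⊓ N) ∣ D.relIndex K :=
      Dvd.intro _ (Subgroup.relIndex_mul_relIndex D (K ⊓ N) K
        (le_inf inf_le_right hDN) inf_le_left)
    obtain ⟨Q, hQ⟩ := exists_sylow_map_eq_inf P K
    have h3 : D.relIndex K = (Q : Subgroup K).index := by
      rw [hD, ← hQ, Subgroup.relIndex, Subgroup.subgroupOf,
        Subgroup.comap_map_eq_self_of_injective K.subtype_injective]
    exact Q.not_dvd_index (h3 ▸ ((h1 ▸ h).trans h2))
  · rw [Sylow.coe_mapSurjective, Sylow.coe_subtype, ← Subgroup.map_sup]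
    have : (P : Subgroup G).subgroupOf N ⊔ K.subgroupOf N = ⊤ := by
      rw [eq_top_iff]
      rintro ⟨m, hm⟩ -
      obtain ⟨y, hy, a, ha, rfl⟩ := Subgroup.mem_sup_of_normal_right.1 hm.1
      have ham : a ∈ N := by
        have := N.mul_mem (N.inv_mem (hPN hy)) hm
        rwa [inv_mul_cancel_left] at this
      exact Subgroup.mul_mem_sup (S := (P : Subgroup G).subgroupOf N) (T := K.subgroupOf N)
        (x := ⟨y, hPN hy⟩) (y := ⟨a, ham⟩) hy ha
    rw [this, Subgroup.map_top_of_surjective _ hfs]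

theorem exists_factors_aux : ∀ (n : ℕ) (G : Type u) [Group G] [Finite G], Nat.card G ≤ n →
    ∀ (p : ℕ) [Fact p.Prime], ∃ l : List ℕ, l.prod = Nat.card (Sylow p G) ∧
      ∀ m ∈ l, (IsPrimePow m ∧ m % p = 1) ∨
        ∃ (S : Type u) (_ : Group S) (_ : Finite S), IsSimpleGroup S ∧ m = Nat.card (Sylow p S) ∧
          (Group.IsSolvable G → Group.IsSolvable S) := by
  intro n
  induction n with
  | zero => intro G _ _ h; exact absurd h (Nat.not_le.2 Nat.card_pos)
  | succ n ih =>
    intro G _ _ hn p _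
    classical
    rcases subsingleton_or_nontrivial G with hG | hG
    · refine ⟨[], ?_, by simp⟩
      have : Subsingleton (Sylow p G) := ⟨fun a b => Sylow.ext (Subsingleton.elim _ _)⟩
      rw [List.prod_nil, Nat.card_unique]
    obtain ⟨K, hKmax⟩ := Set.Finite.exists_maximal
      (Set.toFinite {K : Subgroup G | K.Normal ∧ K ≠ ⊤}) ⟨⊥, inferInstance, bot_ne_top⟩
    obtain ⟨hKn, hKtop⟩ := hKmax.1
    haveI := hKn
    haveI : Nontrivial (G ⧸ K) := QuotientGroup.nontrivial_iff.2 hKtop
    have hsimple : IsSimpleGroup (G ⧸ K) := by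
      refine ⟨fun N hN => ?_⟩
      have hle : K ≤ N.comap (QuotientGroup.mk' K) := by
        intro x hx
        rw [Subgroup.mem_comap, QuotientGroup.mk'_apply, (QuotientGroup.eq_one_iff x).2 hx]
        exact one_mem N
      by_cases h : N.comap (QuotientGroup.mk' K) = ⊤
      · right
        rw [← Subgroup.map_comap_eq_self_of_surjective (QuotientGroup.mk'_surjective K) N, h,
          Subgroup.map_top_of_surjective _ (QuotientGroup.mk'_surjective K)]
      · left
        have := le_antisymm (hKmax.2 (show _ ∈ {K : Subgroup G | K.Normal ∧ K ≠ ⊤} from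
          ⟨hN.comap _, h⟩) hle) hle
        rw [← Subgroup.map_comap_eq_self_of_surjective (QuotientGroup.mk'_surjective K) N, this,
          QuotientGroup.map_mk'_self]
    have hKcard : Nat.card K ≤ n := by
      have h1 := Subgroup.card_mul_index K
      have h2 : 2 ≤ K.index := by
        have h3 : K.index ≠ 0 := Subgroup.index_ne_zero_of_finite
        have h4 : K.index ≠ 1 := fun h => hKtop (Subgroup.index_eq_one.1 h)
        omega
      have h5 := Nat.mul_le_mul_left (Nat.card K) h2
      have h6 : 0 < Nat.card K := Nat.card_pos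
      omega
    obtain ⟨l, hl, hmem⟩ := ih K hKcard p
    obtain ⟨P⟩ := (inferInstance : Nonempty (Sylow p G))
    set T := Nat.card (Sylow p ↥(((P : Subgroup G) ⊔ K) ⊓
      Subgroup.normalizer (((P : Subgroup G) ⊓ K : Subgroup G) : Set G))) with hT
    refine ⟨Nat.card (Sylow p (G ⧸ K)) :: (l ++ T.primeFactors.toList.map
      fun ℓ => ℓ ^ T.factorization ℓ), ?_, ?_⟩
    · rw [List.prod_cons, List.prod_append, hl, Finset.prod_map_toList,
        card_sylow_eq_mul P K, mul_assoc]
      congr 2
      exact (Nat.prod_primeFactors_pow_factorization Nat.card_pos.ne').symm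
    · intro m hm
      rw [List.mem_cons, List.mem_append, List.mem_map] at hm
      rcases hm with rfl | hm | ⟨ℓ, hℓ, rfl⟩
      · right
        exact ⟨G ⧸ K, inferInstance, inferInstance, hsimple, rfl, fun h => inferInstance⟩
      · rcases hmem m hm with h | ⟨S, i1, i2, hS, hm', hsol⟩
        · exact Or.inl h
        · exact Or.inr ⟨S, i1, i2, hS, hm', fun h => hsol inferInstance⟩
      · left
        rw [Finset.mem_toList] at hℓ
        have hℓ' := Nat.prime_of_mem_primeFactors hℓ
        refine ⟨hℓ'.isPrimePow.pow (Finsupp.mem_support_iff.1 (Nat.support_factorization T ▸ hℓ)), ?_⟩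
        have := factor_modEq_one P K ℓ hℓ'
        rw [Nat.ModEq, Nat.one_mod_eq_one.2 (Fact.out : p.Prime).ne_one] at this
        exact this

/-- M. Hall: the Sylow number is a product of prime powers `≡ 1 (mod p)` and Sylow numbers of
simple groups. -/
theorem exists_factors (G : Type u) [Group G] [Finite G] (p : ℕ) [Fact p.Prime] :
    ∃ l : List ℕ, l.prod = Nat.card (Sylow p G) ∧
      ∀ m ∈ l, (IsPrimePow m ∧ m % p = 1) ∨
        ∃ (S : Type u) (_ : Group S) (_ : Finite S), IsSimpleGroup S ∧ m = Nat.card (Sylow p S) ∧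
          (Group.IsSolvable G → Group.IsSolvable S) :=
  exists_factors_aux _ G le_rfl p

/-- If the only divisors of `n` that are `≡ 1 (mod p)` are `1` and `n`, and `n > 1` is not a prime
power, a group with `n` Sylow `p`-subgroups yields a simple one. -/
theorem exists_simple_of_card_sylow (G : Type u) [Group G] [Finite G] (p : ℕ) [Fact p.Prime]
    {n : ℕ} (hn1 : n ≠ 1) (hpp : ¬ IsPrimePow n) (hd : ∀ d ∈ n.divisors, d % p = 1 → d = 1 ∨ d = n)
    (hG : Nat.card (Sylow p G) = n) :
    ∃ (S : Type u) (_ : Group S) (_ : Finite S), IsSimpleGroup S ∧ Nat.card (Sylow p S) = n := by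
  obtain ⟨l, hl, hmem⟩ := exists_factors G p
  by_contra hno
  apply hn1
  rw [← hG, ← hl]
  apply List.prod_eq_one
  intro m hm
  have hmn : m ∣ n := hG ▸ hl ▸ List.dvd_prod hm
  have hn0 : n ≠ 0 := hG ▸ Nat.card_pos.ne'
  rcases hmem m hm with ⟨hpow, hmod⟩ | ⟨S, i1, i2, hS, hm', -⟩
  · rcases hd m (Nat.mem_divisors.2 ⟨hmn, hn0⟩) hmod with h | h
    · exact h
    · exact absurd (h ▸ hpow) hpp
  · have hmod : m % p = 1 := by
      rw [hm']
      have := card_sylow_modEq_one p S
      rwa [Nat.ModEq, Nat.one_mod_eq_one.2 (Fact.out : p.Prime).ne_one] at this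
    rcases hd m (Nat.mem_divisors.2 ⟨hmn, hn0⟩) hmod with h | h
    · exact h
    · exact absurd ⟨S, i1, i2, hS, hm'.symm.trans h⟩ hno

end CfsgLib.SylowNumber
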