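import Mathlib

/-!
Elementary counting for small permutation actions: fixed points of elements of prime order,
sign of an involution, orbits of equal size, and the geometry of Sylow intersections of index `p`.
-/

set_option autoImplicit false
set_option linter.style.haveILetI false
open scoped Pointwise

set_option linter.unusedSectionVars false

namespace CfsgLib.SylowNumber

open MulAction

variable {G : Type*} [Group G] {α : Type*} [Fintype α] [DecidableEq α] [MulAction G α]

/-- The fixed points of `g` as a finite set. -/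
def fixFinset (α : Type*) [Fintype α] [DecidableEq α] [MulAction G α] (g : G) : Finset α :=
  Finset.univ.filter fun a => g • a = a

omit [DecidableEq α] in
theorem mem_fixFinset [DecidableEq α] {g : G} {a : α} : a ∈ fixFinset α g ↔ g • a = a := by
  simp [fixFinset]

theorem card_modEq_card_filter_fixed {r : ℕ} [Fact r.Prime] {y : G} (hy : y ^ r = 1)
    (A : Finset α) (hA : ∀ a ∈ A, y • a ∈ A) :
    A.card ≡ (A.filter fun a => y • a = a).card [MOD r] := by
  classical
  have hinv : ∀ a, (toPerm y : Equiv.Perm α) a ∈ A ↔ a ∈ A := by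
    intro a
    refine ⟨fun h => ?_, hA a⟩
    have : ∀ j : ℕ, y ^ j • (y • a) ∈ A := by
      intro j
      induction j with
      | zero => rw [pow_zero, one_smul]; exact h
      | succ j ih => rw [pow_succ', mul_smul]; exact hA _ ih
    have h2 := this (r - 1)
    rw [← mul_smul, ← pow_succ, Nat.sub_add_cancel (Fact.out : r.Prime).pos, hy, one_smul] at h2
    exact h2
  let σ : Equiv.Perm A := (toPerm y : Equiv.Perm α).subtypePerm hinv
  have hσ : σ ^ r ^ 1 = 1 := by
    rw [pow_one]
    ext a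
    rw [Equiv.Perm.subtypePerm_pow]
    change ((toPermHom G α y) ^ r) (a : α) = a
    rw [← map_pow, hy, map_one]
    rfl
  have h := Equiv.Perm.card_compl_support_modEq hσ
  rw [Fintype.card_coe] at h
  refine h.symm.trans ?_
  have hc : σ.supportᶜ.card = (A.filter fun a => y • a = a).card := by
    rw [← Finset.card_map (Function.Embedding.subtype _)]
    congr 1
    ext a
    simp [σ, Finset.mem_filter, and_comm]
  rw [hc]

theorem card_fix_modEq {r : ℕ} [Fact r.Prime] {y : G} (hy : y ^ r = 1) :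
    (fixFinset α y).card ≡ Fintype.card α [MOD r] :=
  (card_modEq_card_filter_fixed hy Finset.univ (fun a _ => Finset.mem_univ _)).symm

theorem card_fix_modEq_common {r : ℕ} [Fact r.Prime] {x y : G} (hy : y ^ r = 1)
    (hxy : x * y = y * x) :
    (fixFinset α x).card ≡ ((fixFinset α x).filter fun a => y • a = a).card [MOD r] := by
  refine card_modEq_card_filter_fixed hy _ fun a ha => ?_
  rw [mem_fixFinset] at ha ⊢
  rw [← mul_smul, hxy, mul_smul, ha]

/-- An involution acting as an even permutation has `n - f ≡ 0 (mod 4)`. -/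
theorem four_dvd_card_support {t : G} (ht : t ^ 2 = 1)
    (hsign : Equiv.Perm.sign (toPerm t : Equiv.Perm α) = 1) :
    4 ∣ Fintype.card α - (fixFinset α t).card := by
  classical
  set σ : Equiv.Perm α := toPerm t with hσ
  have hσ2 : σ ^ 2 = 1 := by
    have h := congrArg (toPermHom G α) ht
    rwa [map_pow, map_one] at h
  have hcyc : ∀ n ∈ σ.cycleType, n = 2 := fun n hn => by
    have h1 : n ∣ orderOf σ := Equiv.Perm.lcm_cycleType σ ▸ Multiset.dvd_lcm hn
    have h2 := h1.trans (orderOf_dvd_of_pow_eq_one hσ2)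
    have h3 := Equiv.Perm.two_le_of_mem_cycleType hn
    have h4 := Nat.le_of_dvd two_pos h2
    omega
  have hrep : σ.cycleType = Multiset.replicate (Multiset.card σ.cycleType) 2 :=
    Multiset.eq_replicate_card.2 hcyc
  have hsum : σ.support.card = Multiset.card σ.cycleType * 2 := by
    rw [← Equiv.Perm.sum_cycleType, hrep]; simp
  have hpar : Even (Multiset.card σ.cycleType) := by
    have h := hsign
    rw [Equiv.Perm.sign_of_cycleType, Equiv.Perm.sum_cycleType, hsum, pow_add,
      mul_comm (Multiset.card σ.cycleType) 2, pow_mul, neg_one_sq, one_pow, one_mul] at h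
    rcases Nat.even_or_odd (Multiset.card σ.cycleType) with he | ho
    · exact he
    · exfalso
      rw [ho.neg_one_pow] at h
      simp at h
  have hfix : Fintype.card α - (fixFinset α t).card = σ.support.card := by
    rw [← Finset.card_compl]
    congr 1
    ext a
    simp [fixFinset, σ, Equiv.Perm.mem_support]
  rw [hfix, hsum]
  obtain ⟨j, hj⟩ := hpar
  exact ⟨j, by omega⟩

omit [Fintype α] [DecidableEq α] in
theorem eq_one_of_forall_smul_eq (hinj : Function.Injective (toPermHom G α)) {g : G}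
    (h : ∀ a : α, g • a = a) : g = 1 :=
  hinj ((Equiv.ext h : toPermHom G α g = 1).trans (map_one _).symm)

theorem eq_one_of_fix_eq_univ (hinj : Function.Injective (toPermHom G α)) {g : G}
    (h : (fixFinset α g).card = Fintype.card α) : g = 1 :=
  eq_one_of_forall_smul_eq hinj fun a =>
    mem_fixFinset.1 ((Finset.card_eq_iff_eq_univ _).1 h ▸ Finset.mem_univ a)

/-- The orbit of `a` under the subgroup `H` as a finite set. -/
noncomputable def orbitFinset (H : Subgroup G) (a : α) : Finset α :=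
  (Set.toFinite (orbit H a)).toFinset

theorem mem_orbitFinset {H : Subgroup G} {a b : α} : b ∈ orbitFinset H a ↔ b ∈ orbit H a := by
  simp [orbitFinset]

theorem card_orbitFinset (H : Subgroup G) (a : α) :
    (orbitFinset H a).card = Nat.card (orbit H a) := by
  exact (Nat.card_eq_card_finite_toFinset _).symm

theorem filter_orbitFinset_eq (H : Subgroup G) (A : Finset α) (hA : ∀ a ∈ A, ∀ h ∈ H, h • a ∈ A)
    {a : α} (ha : a ∈ A) :
    A.filter (fun b => orbitFinset H b = orbitFinset H a) = orbitFinset H a := by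
  ext b
  rw [Finset.mem_filter, mem_orbitFinset]
  constructor
  · rintro ⟨-, h⟩
    rw [← mem_orbitFinset, ← h, mem_orbitFinset]
    exact mem_orbit_self b
  · intro hb
    refine ⟨?_, ?_⟩
    · obtain ⟨⟨h, hh⟩, rfl⟩ := hb
      exact hA a ha h hh
    · ext c
      rw [mem_orbitFinset, mem_orbitFinset, orbit_eq_iff.2 hb]

theorem dvd_card_of_orbits (H : Subgroup G) (A : Finset α) (hA : ∀ a ∈ A, ∀ h ∈ H, h • a ∈ A)
    {s : ℕ} (hs : ∀ a ∈ A, s ∣ Nat.card (orbit H a)) : s ∣ A.card := by
  classical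
  rw [Finset.card_eq_sum_card_image (orbitFinset H) A]
  refine Finset.dvd_sum fun B hB => ?_
  obtain ⟨a, ha, rfl⟩ := Finset.mem_image.1 hB
  rw [filter_orbitFinset_eq H A hA ha, card_orbitFinset]
  exact hs a ha

theorem card_eq_card_image_mul (H : Subgroup G) (A : Finset α) (hA : ∀ a ∈ A, ∀ h ∈ H, h • a ∈ A)
    {s : ℕ} (hs : ∀ a ∈ A, Nat.card (orbit H a) = s) :
    A.card = (A.image (orbitFinset H)).card * s := by
  classical
  rw [Finset.card_eq_sum_card_image (orbitFinset H) A, Finset.sum_const_nat]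
  intro B hB
  obtain ⟨a, ha, rfl⟩ := Finset.mem_image.1 hB
  rw [filter_orbitFinset_eq H A hA ha, card_orbitFinset]
  exact hs a ha

section Sylow

variable {G : Type*} [Group G] [Finite G] {p : ℕ} [hp : Fact p.Prime]

theorem card_sylow_subgroup_eq (P Q : Sylow p G) :
    Nat.card (P : Subgroup G) = Nat.card (Q : Subgroup G) := by
  rw [P.card_eq_multiplicity, Q.card_eq_multiplicity]

theorem smul_eq_self_iff_mem {P Q : Sylow p G} {h : G} (hh : h ∈ (P : Subgroup G)) :
    h • Q = Q ↔ h ∈ (Q : Subgroup G) := by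
  rw [Sylow.smul_eq_iff_mem_normalizer]
  refine ⟨fun hn => ?_, fun hm => Subgroup.le_normalizer hm⟩
  exact ((P.2.inf_normalizer_sylow Q).le ⟨hh, hn⟩).2

theorem stabilizer_eq_subgroupOf (P Q : Sylow p G) :
    stabilizer (P : Subgroup G) Q = (Q : Subgroup G).subgroupOf P := by
  ext x
  rw [mem_stabilizer_iff, Subgroup.mem_subgroupOf]
  exact smul_eq_self_iff_mem (P := P) x.2

theorem card_orbit_mul_card_inf (P Q : Sylow p G) :
    Nat.card (orbit (P : Subgroup G) Q) * Nat.card ↥((P : Subgroup G) ⊓ Q) =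
      Nat.card (P : Subgroup G) := by
  rw [Nat.card_congr (orbitEquivQuotientStabilizer (P : Subgroup G) Q), stabilizer_eq_subgroupOf,
    ← Subgroup.index_eq_card, mul_comm,
    ← Subgroup.card_mul_index ((Q : Subgroup G).subgroupOf (P : Subgroup G))]
  congr 1
  rw [← Subgroup.inf_subgroupOf_right, inf_comm (Q : Subgroup G)]
  exact (Nat.card_congr (Subgroup.subgroupOfEquivOfLe inf_le_left).toEquiv).symm

theorem exists_card_orbit_eq_pow (P Q : Sylow p G) :
    ∃ j : ℕ, Nat.card (orbit (P : Subgroup G) Q) = p ^ j := by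
  obtain ⟨k, hk⟩ := IsPGroup.iff_card.1 P.2
  have h : Nat.card (orbit (P : Subgroup G) Q) ∣ p ^ k := hk ▸ Dvd.intro _ (card_orbit_mul_card_inf P Q)
  obtain ⟨j, -, hj⟩ := (Nat.dvd_prime_pow hp.out).1 h
  exact ⟨j, hj⟩

theorem card_orbit_ne_one {P Q : Sylow p G} (h : P ≠ Q) :
    Nat.card (orbit (P : Subgroup G) Q) ≠ 1 := by
  intro h1
  have h2 := card_orbit_mul_card_inf P Q
  rw [h1, one_mul] at h2
  have h3 : (P : Subgroup G) ⊓ Q = P := Subgroup.eq_of_le_of_card_ge inf_le_left h2.ge
  exact h (Sylow.ext ((P.3 Q.2 (inf_eq_left.1 h3)).symm))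

theorem prime_mul_card_inf_le {P Q : Sylow p G} (h : P ≠ Q) :
    p * Nat.card ↥((P : Subgroup G) ⊓ Q) ≤ Nat.card (P : Subgroup G) := by
  rw [← card_orbit_mul_card_inf P Q]
  refine Nat.mul_le_mul_right _ ?_
  obtain ⟨j, hj⟩ := exists_card_orbit_eq_pow P Q
  have hj0 : j ≠ 0 := fun h0 => card_orbit_ne_one h (by rw [hj, h0, pow_zero])
  rw [hj]
  exact Nat.le_self_pow hj0 p

/-- Two Sylow subgroups meeting in a subgroup of index `p`. -/
def Adjacent (P Q : Sylow p G) : Prop :=
  p * Nat.card ↥((P : Subgroup G) ⊓ Q) = Nat.card (P : Subgroup G)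

theorem Adjacent.ne {P Q : Sylow p G} (h : Adjacent P Q) : P ≠ Q := by
  rintro rfl
  rw [Adjacent, inf_idem] at h
  have h1 := hp.out.one_lt
  have h2 : 0 < Nat.card (P : Subgroup G) := Nat.card_pos
  nlinarith

theorem Adjacent.symm {P Q : Sylow p G} (h : Adjacent P Q) : Adjacent Q P := by
  rw [Adjacent] at h ⊢
  rw [inf_comm, h, card_sylow_subgroup_eq P Q]

theorem adjacent_iff_card_orbit {P Q : Sylow p G} :
    Adjacent P Q ↔ Nat.card (orbit (P : Subgroup G) Q) = p := by
  rw [Adjacent, ← card_orbit_mul_card_inf P Q]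
  exact ⟨fun h => (Nat.eq_of_mul_eq_mul_right Nat.card_pos h).symm, fun h => by rw [h]⟩

theorem adjacent_of_le {P Q R S : Sylow p G} (h : Adjacent P Q)
    (hR : (P : Subgroup G) ⊓ Q ≤ R) (hS : (P : Subgroup G) ⊓ Q ≤ S) (hne : R ≠ S) :
    Adjacent R S ∧ (R : Subgroup G) ⊓ S = (P : Subgroup G) ⊓ Q := by
  have hle : (P : Subgroup G) ⊓ Q ≤ (R : Subgroup G) ⊓ S := le_inf hR hS
  have h1 := Subgroup.card_le_of_le hle
  have h2 := prime_mul_card_inf_le hne
  rw [card_sylow_subgroup_eq R P, ← h] at h2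
  have h3 := Nat.le_of_mul_le_mul_left h2 hp.out.pos
  have heq : (P : Subgroup G) ⊓ Q = (R : Subgroup G) ⊓ S := Subgroup.eq_of_le_of_card_ge hle h3
  refine ⟨?_, heq.symm⟩
  rw [Adjacent, ← heq, h, card_sylow_subgroup_eq R P]

/-- An intersection of index `p` is normal in either Sylow subgroup. -/
theorem Adjacent.le_smul {P Q : Sylow p G} (h : Adjacent P Q) {u : G} (hu : u ∈ (P : Subgroup G))
    {R : Sylow p G} (hR : (P : Subgroup G) ⊓ Q ≤ R) :
    (P : Subgroup G) ⊓ Q ≤ ((u • R : Sylow p G) : Subgroup G) := by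
  haveI : ((Q : Subgroup G).subgroupOf (P : Subgroup G)).Normal := by
    apply Subgroup.normal_of_index_eq_minFac_card
    have hi : ((Q : Subgroup G).subgroupOf (P : Subgroup G)).index = p := by
      rw [← stabilizer_eq_subgroupOf, Subgroup.index_eq_card,
        ← Nat.card_congr (orbitEquivQuotientStabilizer (P : Subgroup G) Q)]
      exact adjacent_iff_card_orbit.1 h
    obtain ⟨m, hm⟩ := IsPGroup.iff_card.1 P.2
    have hm0 : m ≠ 0 := by
      intro hm0
      have h3 := ((Q : Subgroup G).subgroupOf (P : Subgroup G)).index_dvd_card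
      rw [hi, hm, hm0, pow_zero, Nat.dvd_one] at h3
      exact hp.out.ne_one h3
    rw [hi, hm, Nat.pow_minFac hm0, hp.out.minFac_eq]
  intro y hy
  have h1 : (⟨u, hu⟩ : (P : Subgroup G))⁻¹ * ⟨y, hy.1⟩ * ⟨u, hu⟩ ∈
      (Q : Subgroup G).subgroupOf (P : Subgroup G) := by
    have := ‹((Q : Subgroup G).subgroupOf (P : Subgroup G)).Normal›.conj_mem ⟨y, hy.1⟩
      (Subgroup.mem_subgroupOf.2 hy.2) (⟨u, hu⟩)⁻¹
    rwa [inv_inv] at this
  rw [Subgroup.mem_subgroupOf] at h1
  have h2 : u⁻¹ * y * u ∈ (R : Subgroup G) :=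
    hR (Subgroup.mem_inf.2 ⟨mul_mem (mul_mem (inv_mem hu) hy.1) hu, h1⟩)
  rw [Sylow.coe_subgroup_smul]
  exact ⟨u⁻¹ * y * u, h2, by simp [mul_assoc]⟩

/-- Two Sylow subgroups on a line have no common neighbour outside the line. -/
theorem le_of_adjacent_adjacent {P R Q : Sylow p G} (hPR : Adjacent P R) (hPQ : Adjacent P Q)
    (hRQ : Adjacent R Q) : (P : Subgroup G) ⊓ R ≤ Q := by
  by_contra hnot
  obtain ⟨d, hd, hdQ⟩ := SetLike.not_le_iff_exists.1 hnot
  have hne : d • Q ≠ Q := fun h => hdQ ((smul_eq_self_iff_mem hd.1).1 h)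
  obtain ⟨-, h1⟩ := adjacent_of_le hPQ inf_le_right (hPQ.le_smul hd.1 inf_le_right) hne.symm
  obtain ⟨-, h2⟩ := adjacent_of_le hRQ inf_le_right (hRQ.le_smul hd.2 inf_le_right) hne.symm
  have h3 : (P : Subgroup G) ⊓ Q ≤ R := h1 ▸ h2 ▸ inf_le_left
  have hle : (P : Subgroup G) ⊓ Q ≤ (P : Subgroup G) ⊓ R := le_inf inf_le_left h3
  have hcard : Nat.card ↥((P : Subgroup G) ⊓ Q) = Nat.card ↥((P : Subgroup G) ⊓ R) :=
    Nat.eq_of_mul_eq_mul_left hp.out.pos (Eq.trans hPQ (Eq.symm hPR))
  exact hnot ((Subgroup.eq_of_le_of_card_ge hle hcard.ge) ▸ inf_le_right)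

theorem Adjacent.conj_smul {P Q : Sylow p G} (h : Adjacent P Q) (g : G) : Adjacent (g • P) (g • Q) := by
  rw [Adjacent] at h ⊢
  rw [Sylow.coe_subgroup_smul, Sylow.coe_subgroup_smul, ← Subgroup.smul_inf,
    Nat.card_congr (Subgroup.equivSMul (MulAut.conj g) _).toEquiv.symm,
    Nat.card_congr (Subgroup.equivSMul (MulAut.conj g) (P : Subgroup G)).toEquiv.symm]
  exact h

end Sylow

end CfsgLib.SylowNumber
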