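import Mathlib
import Cfsg.Agent.Lib.Small.Basic
import Cfsg.Agent.Lib.Small.Fixed
import Cfsg.Agent.Lib.SylowNumber.Action

/-!
No simple group has exactly 22 Sylow 3-subgroups (M. Hall). The proof is elementary: the
intersections of index 3 show that a Sylow 3-subgroup has order 3, and counting fixed points
leaves no possible order.
-/

set_option autoImplicit false
set_option linter.style.haveILetI false
open scoped Pointwise

namespace CfsgLib.SylowNumber

open MulAction

variable {S : Type*} [Group S] [Finite S] [IsSimpleGroup S]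

theorem sylow_toPermHom_injective {p : ℕ} [Fact p.Prime] (hnc : ¬ IsMulCommutative S)
    (hdvd : p ∣ Nat.card S) : Function.Injective (toPermHom S (Sylow p S)) := by
  obtain ⟨P⟩ := (inferInstance : Nonempty (Sylow p S))
  rw [← MonoidHom.ker_eq_bot_iff]
  refine (toPermHom S (Sylow p S)).normal_ker.eq_bot_or_eq_top.resolve_right fun htop => ?_
  apply CfsgLib.Small.sylow_normalizer_ne_top hnc hdvd P
  rw [Subgroup.eq_top_iff']
  intro g
  rw [Sylow.coe_coe]
  apply Sylow.smul_eq_iff_mem_normalizer.1
  have : toPermHom S (Sylow p S) g = 1 := MonoidHom.mem_ker.1 (htop ▸ Subgroup.mem_top g)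
  exact congrArg (fun σ : Equiv.Perm (Sylow p S) => σ P) this

/-- An element normalising, not centralising, a subgroup `R` of prime order fixes at most one
point in each orbit of `R`. -/
theorem card_fix_le_card_image {α : Type*} [Fintype α] [DecidableEq α] [MulAction S α] {q : ℕ}
    [Fact q.Prime] {R : Subgroup S} (hR : Nat.card R = q) {t : S}
    (ht : t ∈ Subgroup.normalizer (R : Set S)) (htc : t ∉ Subgroup.centralizer (R : Set S))
    (A : Finset α) :
    (A.filter fun a => t • a = a).card ≤ (A.image (orbitFinset R)).card := by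
  refine Finset.card_le_card_of_injOn (orbitFinset R) ?_ ?_
  · intro a ha
    exact Finset.mem_image_of_mem _ (Finset.mem_filter.1 ha).1
  · intro a ha b hb hab
    rw [Finset.mem_coe, Finset.mem_filter] at ha hb
    refine (CfsgLib.Small.eq_of_fixed_of_mem_orbit hR ht htc ha.2 hb.2 ?_).symm
    rw [← mem_orbitFinset, hab, mem_orbitFinset]
    exact mem_orbit_self b

theorem card_sylow_three_of_twentytwo [Fact (Nat.Prime 3)] (hnc : ¬ IsMulCommutative S)
    (hdvd : 3 ∣ Nat.card S) (hn : Nat.card (Sylow 3 S) = 22) (P : Sylow 3 S) :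
    Nat.card P = 3 := by
  classical
  letI := Fintype.ofFinite (Sylow 3 S)
  have hn' : Fintype.card (Sylow 3 S) = 22 := by rw [← Nat.card_eq_fintype_card, hn]
  let nb : Sylow 3 S → Finset (Sylow 3 S) := fun A => Finset.univ.filter fun B => Adjacent A B
  have hnb : ∀ A B, B ∈ nb A ↔ Adjacent A B := fun A B => by simp [nb]
  have hnb_self : ∀ A, A ∉ nb A := fun A h => ((hnb A A).1 h).ne rfl
  have hconst : ∀ A B : Sylow 3 S, (nb A).card = (nb B).card := by
    intro A B
    obtain ⟨g, rfl⟩ := exists_smul_eq S A B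
    refine Finset.card_bij (fun C _ => g • C) (fun C hC => (hnb _ _).2 (((hnb _ _).1 hC).conj_smul g))
      (fun C _ D _ h => MulAction.injective g h) (fun C hC => ⟨g⁻¹ • C, ?_, smul_inv_smul g C⟩)
    have := ((hnb _ _).1 hC).conj_smul g⁻¹
    rw [inv_smul_smul] at this
    exact (hnb _ _).2 this
  have hfix : ∀ A : Sylow 3 S, ∀ u ∈ (A : Subgroup S), u • A = A := fun A u hu =>
    (smul_eq_self_iff_mem hu).2 hu
  have hnbinv : ∀ A : Sylow 3 S, ∀ B ∈ nb A, ∀ u ∈ (A : Subgroup S), u • B ∈ nb A := by
    intro A B hB u hu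
    rw [hnb] at hB ⊢
    have := hB.conj_smul u
    rwa [hfix A u hu] at this
  have h3 : ∀ A, 3 ∣ (nb A).card := fun A =>
    dvd_card_of_orbits (A : Subgroup S) _ (hnbinv A) fun B hB =>
      (adjacent_iff_card_orbit.1 ((hnb _ _).1 hB)).symm ▸ dvd_rfl
  have h9 : ∀ A, 9 ∣ ((Finset.univ.erase A) \ nb A).card := by
    intro A
    refine dvd_card_of_orbits (A : Subgroup S) _ ?_ ?_
    · intro B hB u hu
      simp only [Finset.mem_sdiff, Finset.mem_erase, Finset.mem_univ, and_true] at hB ⊢
      refine ⟨fun h => hB.1 ?_, fun h => hB.2 ?_⟩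
      · rw [← hfix A u hu] at h
        exact MulAction.injective u h
      · have := hnbinv A _ h u⁻¹ (inv_mem hu)
        rwa [inv_smul_smul] at this
    · intro B hB
      simp only [Finset.mem_sdiff, Finset.mem_erase, Finset.mem_univ, and_true, hnb] at hB
      obtain ⟨j, hj⟩ := exists_card_orbit_eq_pow A B
      have h0 : j ≠ 0 := fun h => card_orbit_ne_one (Ne.symm hB.1) (by rw [hj, h, pow_zero])
      have h1 : j ≠ 1 := fun h => hB.2 (adjacent_iff_card_orbit.2 (by rw [hj, h, pow_one]))
      rw [hj]
      exact pow_dvd_pow 3 (show 2 ≤ j by omega)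
  have hNcases : ∀ A, (nb A).card = 3 ∨ (nb A).card = 12 ∨ (nb A).card = 21 := by
    intro A
    have h1 := h3 A
    have h2 := h9 A
    have hsub : nb A ⊆ Finset.univ.erase A := fun B hB =>
      Finset.mem_erase.2 ⟨fun h => hnb_self A (h ▸ hB), Finset.mem_univ B⟩
    rw [Finset.card_sdiff_of_subset hsub, Finset.card_erase_of_mem (Finset.mem_univ A),
      Finset.card_univ, hn'] at h2
    have h4 := Finset.card_le_card hsub
    rw [Finset.card_erase_of_mem (Finset.mem_univ A), Finset.card_univ, hn'] at h4
    omega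
  let cl : Sylow 3 S → Finset (Sylow 3 S) := fun A => insert A (nb A)
  have hclcard : ∀ A, (cl A).card = (nb A).card + 1 := fun A =>
    Finset.card_insert_of_notMem (hnb_self A)
  -- a line is the closed neighbourhood of each of its points
  have hline : ∀ A B : Sylow 3 S, Adjacent A B →
      cl B = cl A ∧ ∀ C ∈ cl A, (A : Subgroup S) ⊓ B ≤ C := by
    intro A B hAB
    set L := Finset.univ.filter fun C : Sylow 3 S => (A : Subgroup S) ⊓ B ≤ C with hL
    have hmem : ∀ C, C ∈ L ↔ (A : Subgroup S) ⊓ B ≤ C := fun C => by simp [hL]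
    have hAL : A ∈ L := (hmem A).2 inf_le_left
    have hBL : B ∈ L := (hmem B).2 inf_le_right
    have hsub : ∀ C ∈ L, L.erase C ⊆ nb C := by
      intro C hC D hD
      rw [Finset.mem_erase] at hD
      exact (hnb C D).2 (adjacent_of_le hAB ((hmem C).1 hC) ((hmem D).1 hD.2) (Ne.symm hD.1)).1
    have hf3 : 3 ∣ (L.erase A).card := by
      refine dvd_card_of_orbits (A : Subgroup S) _ (fun C hC u hu => ?_) (fun C hC => ?_)
      · rw [Finset.mem_erase] at hC ⊢
        refine ⟨fun h => hC.1 ?_, (hmem _).2 (hAB.le_smul hu ((hmem C).1 hC.2))⟩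
        rw [← hfix A u hu] at h
        exact MulAction.injective u h
      · exact (adjacent_iff_card_orbit.1 ((hnb _ _).1 (hsub A hAL hC))).symm ▸ dvd_rfl
    have hf4 : 4 ≤ L.card := by
      have h1 := Finset.card_pos.2 ⟨B, Finset.mem_erase.2 ⟨hAB.ne.symm, hBL⟩⟩
      have h2 := Nat.le_of_dvd h1 hf3
      rw [Finset.card_erase_of_mem hAL] at h2
      omega
    have hLN : L.card ≤ (nb A).card + 1 := by
      have := Finset.card_le_card (hsub A hAL)
      rw [Finset.card_erase_of_mem hAL] at this
      omega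
    have hout : ∀ C ∈ L, (nb A).card + 1 - L.card ≤ (nb C \ L).card := by
      intro C hC
      have h1 := Finset.le_card_sdiff (L.erase C) (nb C)
      have h2 : nb C \ L.erase C = nb C \ L := by
        ext D
        simp only [Finset.mem_sdiff, Finset.mem_erase]
        refine ⟨fun h => ⟨h.1, fun hD => h.2 ⟨fun e => hnb_self C (e ▸ h.1), hD⟩⟩, fun h => ⟨h.1, fun h' => h.2 h'.2⟩⟩
      rw [h2, Finset.card_erase_of_mem hC, hconst C A] at h1
      omega
    have hdisj : (L : Set (Sylow 3 S)).PairwiseDisjoint fun C => nb C \ L := by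
      intro C hC D hD hne
      rw [Function.onFun, Finset.disjoint_left]
      intro Z hZC hZD
      rw [Finset.mem_sdiff] at hZC hZD
      apply hZC.2
      rw [hmem]
      obtain ⟨hCD, heq⟩ := adjacent_of_le hAB ((hmem C).1 hC) ((hmem D).1 hD) hne
      exact heq ▸ le_of_adjacent_adjacent hCD ((hnb _ _).1 hZC.1) ((hnb _ _).1 hZD.1)
    have hbound : L.card * ((nb A).card + 1 - L.card) ≤ 22 - L.card := by
      calc L.card * ((nb A).card + 1 - L.card) = ∑ C ∈ L, ((nb A).card + 1 - L.card) := by
            rw [Finset.sum_const, smul_eq_mul]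
        _ ≤ ∑ C ∈ L, (nb C \ L).card := Finset.sum_le_sum hout
        _ = (L.biUnion fun C => nb C \ L).card := (Finset.card_biUnion hdisj).symm
        _ ≤ Lᶜ.card := Finset.card_le_card fun Z hZ => by
            obtain ⟨C, -, hZ⟩ := Finset.mem_biUnion.1 hZ
            exact Finset.mem_compl.2 (Finset.mem_sdiff.1 hZ).2
        _ = 22 - L.card := by rw [Finset.card_compl, hn']
    have hfull : L.card = (nb A).card + 1 := by
      obtain ⟨i, hi⟩ := hf3
      rw [Finset.card_erase_of_mem hAL] at hi
      have hLeq : L.card = 3 * i + 1 := by omega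
      have hi7 : i ≤ 7 := by
        have := Finset.card_le_univ L
        rw [hn', hLeq] at this
        omega
      rw [hLeq] at hbound hLN hf4 ⊢
      rcases hNcases A with h | h | h <;> rw [h] at hbound hLN ⊢ <;> interval_cases i <;> omega
    have hcl : ∀ C ∈ L, cl C = L := by
      intro C hC
      refine (Finset.eq_of_subset_of_card_le (fun D hD => ?_) ?_).symm
      · by_cases h : D = C
        · subst h; exact Finset.mem_insert_self _ _
        · exact Finset.mem_insert_of_mem (hsub C hC (Finset.mem_erase.2 ⟨h, hD⟩))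
      · rw [hclcard, hconst C A, hfull]
    exact ⟨(hcl B hBL).trans (hcl A hAL).symm, fun C hC => (hmem C).1 (hcl A hAL ▸ hC)⟩
  -- closed neighbourhoods partition the Sylow subgroups
  have hpart : ((nb P).card + 1) ∣ 22 := by
    rw [← hn', ← Finset.card_univ, Finset.card_eq_sum_card_image cl Finset.univ]
    refine Finset.dvd_sum fun K hK => ?_
    obtain ⟨A, -, rfl⟩ := Finset.mem_image.1 hK
    have : (Finset.univ.filter fun B => cl B = cl A) = cl A := by
      ext B
      rw [Finset.mem_filter]
      refine ⟨fun h => h.2 ▸ Finset.mem_insert_self B _, fun h => ⟨Finset.mem_univ B, ?_⟩⟩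
      rcases Finset.mem_insert.1 h with rfl | h
      · rfl
      · exact (hline A B ((hnb _ _).1 h)).1
    rw [this, hclcard, hconst A P]
  have hN : (nb P).card = 21 := by
    rcases hNcases P with h | h | h
    · rw [h] at hpart; norm_num at hpart
    · rw [h] at hpart; norm_num at hpart
    · exact h
  have huniv : cl P = Finset.univ := by
    apply Finset.eq_univ_of_card
    rw [hclcard, hN, hn']
  obtain ⟨R, hR⟩ := Finset.card_pos.1 (show 0 < (nb P).card by omega)
  rw [hnb] at hR
  have hall := (hline P R hR).2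
  have hbot : (P : Subgroup S) ⊓ R = ⊥ := by
    have hnorm : (⨅ Q : Sylow 3 S, (Q : Subgroup S)).Normal := by
      refine ⟨fun y hy g => ?_⟩
      rw [Subgroup.mem_iInf] at hy ⊢
      intro Q
      have := hy (g⁻¹ • Q)
      rw [Sylow.coe_subgroup_smul] at this
      obtain ⟨r, hr, hry⟩ := Subgroup.mem_map.1 this
      rw [← hry]
      simpa [mul_assoc] using hr
    have hle : (P : Subgroup S) ⊓ R ≤ ⨅ Q : Sylow 3 S, (Q : Subgroup S) :=
      le_iInf fun Q => hall Q (huniv ▸ Finset.mem_univ Q)
    rcases hnorm.eq_bot_or_eq_top with h | h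
    · exact le_bot_iff.1 (h ▸ hle)
    · exact absurd (top_le_iff.1 (h ▸ iInf_le _ P)) (CfsgLib.Small.sylow_ne_top hnc P)
  rw [Adjacent, hbot, Subgroup.card_bot] at hR
  exact hR.symm

theorem twentytwo_numeric : ∀ m ∈ Nat.divisors 560, ∀ e ∈ ({2, 5, 10} : Finset ℕ),
    e ∣ 12 * m → 12 * m / e % 11 = 1 →
      (12 * m / e = 12 ∧ (e = 5 → m = 5)) ∨ 35 ∣ m ∨ m = 112 := by
  decide +kernel

theorem arith_fix_four {k g f : ℕ} (h1 : 22 - 1 = k * 7) (h2 : g ≤ k) (h5 : f = g + 1)
    (h3 : f ≡ 22 [MOD 2]) (h4 : 4 ∣ 22 - f) (h6 : f % 3 = 1) : False := by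
  rw [Nat.ModEq] at h3
  omega

/-- No simple group has exactly 22 Sylow 3-subgroups. -/
theorem no_simple_twentytwo [Fact (Nat.Prime 3)] (hn : Nat.card (Sylow 3 S) = 22) : False := by
  classical
  obtain ⟨P⟩ := (inferInstance : Nonempty (Sylow 3 S))
  have hdvd : 3 ∣ Nat.card S := by
    by_contra h
    haveI : Subsingleton (Sylow 3 S) := by
      have hbot : ∀ Q : Sylow 3 S, (Q : Subgroup S) = ⊥ := fun Q => by
        apply Subgroup.eq_bot_of_card_eq
        rw [Q.card_eq_multiplicity, Nat.factorization_eq_zero_of_not_dvd h, pow_zero]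
      exact ⟨fun a b => Sylow.ext ((hbot a).trans (hbot b).symm)⟩
    rw [Nat.card_unique] at hn
    omega
  have hnc : ¬ IsMulCommutative S := by
    intro hc
    haveI : (P : Subgroup S).Normal :=
      ⟨fun n hn g => by rwa [hc.is_comm.comm g n, mul_inv_cancel_right]⟩
    haveI := Sylow.unique_of_normal P inferInstance
    rw [Nat.card_unique] at hn
    omega
  have hP : ∀ Q : Sylow 3 S, Nat.card Q = 3 := card_sylow_three_of_twentytwo hnc hdvd hn
  obtain ⟨e, he1, he2, hdC, hCN, hcard⟩ := CfsgLib.Small.sylow_prime_order_data hnc P (hP P)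
  obtain rfl : e = 2 := by have := Nat.le_of_dvd (by norm_num) he2; omega
  rw [hn] at hcard
  set C := Subgroup.centralizer ((P : Subgroup S) : Set S) with hC
  obtain ⟨m, hm⟩ := hdC
  letI := Fintype.ofFinite (Sylow 3 S)
  have hn' : Fintype.card (Sylow 3 S) = 22 := by rw [← Nat.card_eq_fintype_card, hn]
  have hinj := sylow_toPermHom_injective (p := 3) hnc hdvd
  obtain ⟨⟨x, hx⟩, hx0⟩ := Subgroup.ne_bot_iff_exists_ne_one.1 (P.ne_bot_of_dvd_card hdvd)
  have hx1 : x ≠ 1 := fun h => hx0 (Subtype.ext h)
  have hxo : orderOf x = 3 := by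
    have h := (P : Subgroup S).orderOf_dvd_natCard hx
    rw [hP P] at h
    exact ((Fact.out : Nat.Prime 3).eq_one_or_self_of_dvd _ h).resolve_left (by simpa using hx1)
  have hfixx : ∀ Q : Sylow 3 S, x • Q = Q ↔ Q = P := by
    intro Q
    rw [smul_eq_self_iff_mem (P := P) hx]
    refine ⟨fun h => ?_, fun h => h ▸ hx⟩
    exact (CfsgLib.Small.exists_unique_sylow_mem hxo hP).unique h hx
  have hCfix : ∀ c ∈ C, c • P = P := fun c hc =>
    Sylow.smul_eq_iff_mem_normalizer.2 (Subgroup.centralizer_le_normalizer _ hc)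
  have hCx : ∀ c ∈ C, c * x = x * c := fun c hc => (Subgroup.mem_centralizer_iff.1 hc x hx).symm
  have hf3 : ∀ c ∈ C, (fixFinset (Sylow 3 S) c).card % 3 = 1 := by
    intro c hc
    have h2 := card_fix_modEq_common (α := Sylow 3 S) (x := c) (y := x)
      (hxo ▸ pow_orderOf_eq_one x) (hCx c hc)
    have h3 : ((fixFinset (Sylow 3 S) c).filter fun Q => x • Q = Q) = {P} := by
      ext Q
      rw [Finset.mem_filter, mem_fixFinset, hfixx, Finset.mem_singleton]
      exact ⟨fun h => h.2, fun h => ⟨h ▸ hCfix c hc, h⟩⟩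
    rw [h3, Finset.card_singleton] at h2
    exact h2
  have hfixlt : ∀ c : S, c ≠ 1 → (fixFinset (Sylow 3 S) c).card < 22 := by
    intro c hc
    have h := Finset.card_le_univ (fixFinset (Sylow 3 S) c)
    rw [hn'] at h
    exact lt_of_le_of_ne h fun h22 => hc (eq_one_of_fix_eq_univ hinj (h22.trans hn'.symm))
  -- the centralizer acts on the seven other orbits of `P`
  have hm3 : ¬ 3 ∣ m := by
    rintro ⟨i, rfl⟩
    have h9 : 3 ^ 2 ∣ Nat.card S := ⟨i * 44, by rw [← hcard, hm]; ring⟩
    have h1 := (Nat.prime_three.pow_dvd_iff_le_factorization (Nat.card_pos (α := S)).ne').1 h9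
    have h2 := P.card_eq_multiplicity
    rw [hP P] at h2
    have h3 := Nat.pow_le_pow_right (show 0 < 3 by norm_num) h1
    omega
  have hm560 : m ∣ 560 := by
    set B := (Finset.univ.erase P).image (orbitFinset (P : Subgroup S)) with hB
    have hB7 : B.card = 7 := by
      have h1 := card_eq_card_image_mul (P : Subgroup S) (Finset.univ.erase P) (s := 3)
        (fun Q hQ u hu => ?_) (fun Q hQ => ?_)
      · rw [Finset.card_erase_of_mem (Finset.mem_univ P), Finset.card_univ, hn', ← hB] at h1
        omega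
      · rw [Finset.mem_erase] at hQ ⊢
        refine ⟨fun h => hQ.1 ?_, Finset.mem_univ _⟩
        rw [← (smul_eq_self_iff_mem hu).2 hu] at h
        exact MulAction.injective u h
      · rw [Finset.mem_erase] at hQ
        obtain ⟨j, hj⟩ := exists_card_orbit_eq_pow P Q
        have h0 : j ≠ 0 := fun h => card_orbit_ne_one (Ne.symm hQ.1) (by rw [hj, h, pow_zero])
        have h1 : Nat.card (orbit (P : Subgroup S) Q) ∣ 3 :=
          (Dvd.intro _ (card_orbit_mul_card_inf P Q)).trans (dvd_of_eq (hP P))
        rw [hj] at h1 ⊢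
        have := (Nat.pow_dvd_pow_iff_le_right (show 1 < 3 by norm_num) (l := 1)).1 (by simpa using h1)
        rw [show j = 1 by omega, pow_one]
    have himg : ∀ c ∈ C, ∀ Q : Sylow 3 S, (orbitFinset (P : Subgroup S) Q).image (c • ·) =
        orbitFinset (P : Subgroup S) (c • Q) := by
      intro c hc Q
      ext R
      rw [Finset.mem_image, mem_orbitFinset]
      constructor
      · rintro ⟨Z, hZ, rfl⟩
        obtain ⟨⟨u, hu⟩, rfl⟩ := mem_orbitFinset.1 hZ
        refine ⟨⟨u, hu⟩, ?_⟩
        change u • c • Q = c • u • Q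
        rw [smul_smul, smul_smul, Subgroup.mem_centralizer_iff.1 hc u hu]
      · rintro ⟨⟨u, hu⟩, rfl⟩
        refine ⟨u • Q, mem_orbitFinset.2 ⟨⟨u, hu⟩, rfl⟩, ?_⟩
        change c • u • Q = u • c • Q
        rw [smul_smul, smul_smul, Subgroup.mem_centralizer_iff.1 hc u hu]
    have hBinv : ∀ c ∈ C, ∀ A ∈ B, A.image (c • ·) ∈ B := by
      intro c hc A hA
      obtain ⟨Q, hQ, rfl⟩ := Finset.mem_image.1 hA
      rw [himg c hc]
      refine Finset.mem_image_of_mem _ (Finset.mem_erase.2 ⟨fun h => ?_, Finset.mem_univ _⟩)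
      rw [← hCfix c hc] at h
      exact (Finset.mem_erase.1 hQ).1 (MulAction.injective c h)
    letI act : MulAction C B :=
      { smul := fun c A => ⟨A.1.image ((c : S) • ·), hBinv c c.2 A.1 A.2⟩
        one_smul := fun A => Subtype.ext (by
          change A.1.image (((1 : C) : S) • ·) = A.1
          simp)
        mul_smul := fun c d A => Subtype.ext (by
          change A.1.image (((c * d : C) : S) • ·) = (A.1.image ((d : S) • ·)).image ((c : S) • ·)
          rw [Finset.image_image]
          simp [Function.comp_def, mul_smul]) }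
    set ψ := toPermHom C B with hψ
    have hker : IsPGroup 3 ψ.ker := by
      have h := fun {q : ℕ} (hq : q.Prime) (hqd : q ∣ Nat.card ψ.ker) => (show q = 3 by
        by_contra hne
        haveI := Fact.mk hq
        obtain ⟨⟨⟨c, hc⟩, hck⟩, hco⟩ := exists_prime_orderOf_dvd_card' q hqd
        rw [Subgroup.orderOf_mk, Subgroup.orderOf_mk] at hco
        have hcq : c ^ q = 1 := hco ▸ pow_orderOf_eq_one c
        have hone : c = 1 := by
          refine eq_one_of_forall_smul_eq hinj fun Q => ?_
          by_cases hQ : Q = P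
          · rw [hQ, hCfix c hc]
          have hA : orbitFinset (P : Subgroup S) Q ∈ B :=
            Finset.mem_image_of_mem _ (Finset.mem_erase.2 ⟨hQ, Finset.mem_univ _⟩)
          have h1 : (orbitFinset (P : Subgroup S) Q).image (c • ·) = orbitFinset (P : Subgroup S) Q :=
            congrArg Subtype.val (congrArg (fun σ : Equiv.Perm B => σ ⟨_, hA⟩) (MonoidHom.mem_ker.1 hck))
          rw [himg c hc] at h1
          have h2 : c • Q ∈ orbit (P : Subgroup S) Q := by
            rw [← mem_orbitFinset, ← h1, mem_orbitFinset]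
            exact mem_orbit_self _
          obtain ⟨⟨u, hu⟩, huQ⟩ := h2
          replace huQ : u • Q = c • Q := huQ
          have hcu : ∀ j : ℕ, c ^ j • Q = u ^ j • Q := by
            intro j
            induction j with
            | zero => rw [pow_zero, pow_zero]
            | succ j ih =>
              rw [pow_succ', mul_smul, ih, smul_smul,
                (show Commute c (u ^ j) from
                  (Commute.symm (show Commute u c from Subgroup.mem_centralizer_iff.1 hc u hu)).pow_right j).eq,
                mul_smul, ← huQ, ← mul_smul, ← pow_succ, pow_succ']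
          have hu3 : u ^ 3 = 1 := by
            have h := (P : Subgroup S).orderOf_dvd_natCard hu
            rw [hP P] at h
            exact orderOf_dvd_iff_pow_eq_one.1 h
          have huq : u ^ (q % 3) • Q = Q := by
            rw [← pow_eq_pow_mod q hu3, ← hcu, hcq, one_smul]
          have hq3 : q % 3 = 1 ∨ q % 3 = 2 := by
            have : ¬ 3 ∣ q := fun h => hne ((Nat.prime_dvd_prime_iff_eq Nat.prime_three hq).1 h).symm
            omega
          rw [← huQ]
          rcases hq3 with h | h
          · rwa [h, pow_one] at huq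
          · rw [h] at huq
            calc u • Q = u • u ^ 2 • Q := by rw [huq]
              _ = u ^ 3 • Q := by rw [smul_smul, ← pow_succ']
              _ = Q := by rw [hu3, one_smul]
        rw [hone, orderOf_one] at hco
        exact hq.ne_one hco.symm)
      exact IsPGroup.of_card (n := _) (Nat.eq_prime_pow_of_unique_prime_dvd Nat.card_pos.ne' h)
    have hk3 : Nat.card ψ.ker ∣ 3 := by
      obtain ⟨T, hT⟩ := (hker.map C.subtype).exists_le_sylow
      have h := Subgroup.card_dvd_of_le hT
      rw [Subgroup.card_map_of_injective C.subtype_injective] at h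
      exact h.trans (dvd_of_eq (hP T))
    have hr : Nat.card ψ.range ∣ 5040 := by
      have h := Subgroup.card_subgroup_dvd_card ψ.range
      rw [Nat.card_perm, show Nat.card B = 7 by rw [Nat.card_eq_fintype_card, Fintype.card_coe, hB7]] at h
      exact h
    have hmul : Nat.card ψ.ker * Nat.card ψ.range = 3 * m := by
      rw [← hm, ← Subgroup.index_ker, Subgroup.card_mul_index]
    have h1 : 3 * m ∣ 3 * 5040 := hmul ▸ mul_dvd_mul hk3 hr
    have h2 : m ∣ 9 * 560 := Nat.dvd_of_mul_dvd_mul_left (by norm_num) h1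
    exact (Nat.Coprime.pow_right 2 ((Nat.prime_three.coprime_iff_not_dvd.2 hm3).symm)).dvd_of_dvd_mul_left h2
  have hm0 : 0 < m := Nat.pos_of_dvd_of_pos hm560 (by norm_num)
  have hScard : Nat.card S = 11 ^ 1 * (12 * m) := by rw [← hcard, hm]; ring
  have h11m : ¬ 11 ∣ 12 * m := by
    intro h
    have h1 := h.trans (Nat.mul_dvd_mul_left 12 hm560)
    norm_num at h1
  -- the Sylow subgroup of order 11
  haveI : Fact (Nat.Prime 11) := ⟨by norm_num⟩
  obtain ⟨Q⟩ := (inferInstance : Nonempty (Sylow 11 S))
  have hQ : ∀ R : Sylow 11 S, Nat.card R = 11 := fun R => by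
    rw [CfsgLib.Small.card_sylow_of_card_eq hScard h11m R, pow_one]
  have h11 : 11 ∣ Nat.card S := ⟨12 * m, by rw [hScard, pow_one]⟩
  obtain ⟨e', he', he'10, -, hN11, hcard11⟩ := CfsgLib.Small.sylow_prime_order_data hnc Q (hQ Q)
  have hNP : ∀ R : Sylow 3 S,
      Nat.card (Subgroup.normalizer ((R : Subgroup S) : Set S)) = 6 * m := by
    intro R
    have := CfsgLib.Small.card_normalizer_mul_card_sylow R
    rw [hn, hScard] at this
    omega
  have hy_nofix : ∀ y : S, orderOf y = 11 → (fixFinset (Sylow 3 S) y).card = 0 := by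
    intro y hy
    rw [Finset.card_eq_zero, Finset.eq_empty_iff_forall_notMem]
    intro R hR
    rw [mem_fixFinset, Sylow.smul_eq_iff_mem_normalizer, ← Sylow.coe_coe] at hR
    have h := (Subgroup.normalizer ((R : Subgroup S) : Set S)).orderOf_dvd_natCard hR
    rw [hy, hNP R] at h
    exact h11m (by rw [show 12 * m = 2 * (6 * m) by ring]; exact dvd_mul_of_dvd_right h 2)
  obtain ⟨⟨y, hy⟩, hy0⟩ := Subgroup.ne_bot_iff_exists_ne_one.1 (Q.ne_bot_of_dvd_card h11)
  have hy1 : y ≠ 1 := fun h => hy0 (Subtype.ext h)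
  have hyo : orderOf y = 11 := by
    have h := (Q : Subgroup S).orderOf_dvd_natCard hy
    rw [hQ Q] at h
    exact ((Fact.out : Nat.Prime 11).eq_one_or_self_of_dvd _ h).resolve_left (by simpa using hy1)
  have hC11 : Nat.card (Subgroup.centralizer ((Q : Subgroup S) : Set S)) = 11 := by
    set D := Subgroup.centralizer ((Q : Subgroup S) : Set S) with hD
    have hQD : (Q : Subgroup S) ≤ D := by
      intro a ha
      rw [Subgroup.mem_centralizer_iff]
      intro b hb
      haveI : IsCyclic (Q : Subgroup S) := isCyclic_of_prime_card (hQ Q)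
      letI := IsCyclic.commGroup (α := (Q : Subgroup S))
      exact congrArg Subtype.val (mul_comm (⟨b, hb⟩ : (Q : Subgroup S)) ⟨a, ha⟩)
    have hprimes : ∀ {q : ℕ}, q.Prime → q ∣ Nat.card D → q = 11 := by
      intro q hq hqd
      by_contra hne
      haveI := Fact.mk hq
      obtain ⟨⟨c, hc⟩, hco⟩ := exists_prime_orderOf_dvd_card' q hqd
      rw [Subgroup.orderOf_mk] at hco
      have hcy : c * y = y * c := (Subgroup.mem_centralizer_iff.1 hc y hy).symm
      have h1 := card_fix_modEq (α := Sylow 3 S) (y := c) (r := q) (hco ▸ pow_orderOf_eq_one c)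
      rw [hn'] at h1
      have h2 := card_fix_modEq_common (α := Sylow 3 S) (x := c) (y := y) (r := 11)
        (hyo ▸ pow_orderOf_eq_one y) hcy
      have h3 : ((fixFinset (Sylow 3 S) c).filter fun R => y • R = R) = ∅ := by
        rw [Finset.eq_empty_iff_forall_notMem]
        intro R hR
        rw [Finset.mem_filter] at hR
        have h0 := Finset.card_eq_zero.1 (hy_nofix y hyo)
        exact Finset.notMem_empty R (h0 ▸ mem_fixFinset.2 hR.2)
      rw [h3, Finset.card_empty, Nat.ModEq] at h2
      have hc1 : c ≠ 1 := fun h => hq.ne_one (by rw [← hco, h, orderOf_one])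
      have hlt := hfixlt c hc1
      generalize hf : (fixFinset (Sylow 3 S) c).card = f at h1 h2 hlt
      have hd : q ∣ 22 - f := (Nat.modEq_iff_dvd' (by omega)).1 h1
      obtain rfl | rfl : f = 0 ∨ f = 11 := by omega
      · rcases hq.dvd_mul.1 (show q ∣ 2 * 11 from hd) with h | h
        · obtain rfl := (Nat.prime_dvd_prime_iff_eq hq Nat.prime_two).1 h
          have h4 := four_dvd_card_support (α := Sylow 3 S) (hco ▸ pow_orderOf_eq_one c)
            (CfsgLib.Small.sign_toPerm hnc c)
          rw [hf, hn'] at h4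
          omega
        · exact hne ((Nat.prime_dvd_prime_iff_eq hq Fact.out).1 h)
      · exact hne ((Nat.prime_dvd_prime_iff_eq hq Fact.out).1 hd)
    have hpow := Nat.eq_prime_pow_of_unique_prime_dvd (Nat.card_pos (α := D)).ne' hprimes
    obtain ⟨T, hT⟩ := (IsPGroup.of_card hpow).exists_le_sylow
    have h1 := Subgroup.card_le_of_le hT
    have h2 := Subgroup.card_le_of_le hQD
    have h3 := hQ T
    have h4 := hQ Q
    omega
  rw [hC11] at hN11 hcard11
  rw [hScard, pow_one, mul_assoc] at hcard11
  have hprod : e' * Nat.card (Sylow 11 S) = 12 * m :=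
    Nat.eq_of_mul_eq_mul_left (by norm_num) hcard11
  have he'mem : e' ∈ ({2, 5, 10} : Finset ℕ) := by
    have := Nat.le_of_dvd (by norm_num) he'10
    interval_cases e' <;> simp <;> norm_num at he'10
  have hn11 : 12 * m / e' = Nat.card (Sylow 11 S) := by
    rw [← hprod, Nat.mul_div_cancel_left _ (by omega)]
  have hmod : 12 * m / e' % 11 = 1 := by
    rw [hn11]
    exact card_sylow_modEq_one 11 S
  rcases twentytwo_numeric m (Nat.mem_divisors.2 ⟨hm560, by norm_num⟩) e' he'mem
    (Dvd.intro _ hprod) hmod with ⟨h12, hm5⟩ | hbig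
  · -- twelve Sylow 11-subgroups
    rw [hn11] at h12
    letI := Fintype.ofFinite (Sylow 11 S)
    have h12' : Fintype.card (Sylow 11 S) = 12 := by rw [← Nat.card_eq_fintype_card, h12]
    have hinj' := sylow_toPermHom_injective (p := 11) hnc h11
    by_cases he5 : e' = 5
    · have hm5' := hm5 he5
      haveI : Fact (Nat.Prime 5) := ⟨Nat.prime_five⟩
      obtain ⟨⟨c, hc⟩, hco⟩ := exists_prime_orderOf_dvd_card' (G := C) 5
        (by rw [hm, hm5']; exact ⟨3, rfl⟩)
      rw [Subgroup.orderOf_mk] at hco
      have h1 := card_fix_modEq (α := Sylow 11 S) (y := c) (r := 5) (hco ▸ pow_orderOf_eq_one c)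
      rw [h12'] at h1
      have h2 := card_fix_modEq_common (α := Sylow 11 S) (x := c) (y := x) (r := 3)
        (hxo ▸ pow_orderOf_eq_one x) (hCx c hc)
      have h3 : ((fixFinset (Sylow 11 S) c).filter fun R => x • R = R) = ∅ := by
        rw [Finset.eq_empty_iff_forall_notMem]
        intro R hR
        rw [Finset.mem_filter, Sylow.smul_eq_iff_mem_normalizer, ← Sylow.coe_coe] at hR
        have h := (Subgroup.normalizer ((R : Subgroup S) : Set S)).orderOf_dvd_natCard hR.2
        have h' := CfsgLib.Small.card_normalizer_mul_card_sylow R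
        rw [h12, hScard, hm5'] at h'
        rw [hxo] at h
        have : Nat.card (Subgroup.normalizer ((R : Subgroup S) : Set S)) = 55 := by omega
        rw [this] at h
        norm_num at h
      rw [h3, Finset.card_empty, Nat.ModEq] at h2
      rw [Nat.ModEq] at h1
      have hle := Finset.card_le_univ (fixFinset (Sylow 11 S) c)
      rw [h12'] at hle
      have hc1 : c ≠ 1 := fun h => by rw [h, orderOf_one] at hco; norm_num at hco
      have hne12 : (fixFinset (Sylow 11 S) c).card ≠ 12 := fun h =>
        hc1 (eq_one_of_fix_eq_univ hinj' (h.trans h12'.symm))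
      omega
    · have hev : 2 ∣ e' := by
        simp only [Finset.mem_insert, Finset.mem_singleton] at he'mem
        rcases he'mem with h | h | h <;> subst h <;> first | exact absurd rfl he5 | norm_num
      haveI : Fact (Nat.Prime 2) := ⟨Nat.prime_two⟩
      obtain ⟨⟨t, ht⟩, hto⟩ := exists_prime_orderOf_dvd_card'
        (G := Subgroup.normalizer ((Q : Subgroup S) : Set S)) 2
        (by rw [← hN11]; exact dvd_mul_of_dvd_right hev _)
      rw [Subgroup.orderOf_mk] at hto
      have htc : t ∉ Subgroup.centralizer ((Q : Subgroup S) : Set S) := fun h => by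
        have := Subgroup.orderOf_dvd_natCard _ h
        rw [hto, hC11] at this
        norm_num at this
      have hAinv : ∀ R ∈ Finset.univ.erase Q, ∀ u ∈ (Q : Subgroup S), u • R ∈ Finset.univ.erase Q := by
        intro R hR u hu
        rw [Finset.mem_erase] at hR ⊢
        refine ⟨fun h => hR.1 ?_, Finset.mem_univ _⟩
        rw [← (smul_eq_self_iff_mem hu).2 hu] at h
        exact MulAction.injective u h
      have h1 := card_eq_card_image_mul (Q : Subgroup S) (Finset.univ.erase Q) (s := 11) hAinv
        (fun R hR => ?_)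
      · rw [Finset.card_erase_of_mem (Finset.mem_univ Q), Finset.card_univ, h12'] at h1
        have h2 := card_fix_le_card_image (α := Sylow 11 S) (hQ Q) ht htc (Finset.univ.erase Q)
        have h3 := card_fix_modEq (α := Sylow 11 S) (y := t) (r := 2) (hto ▸ pow_orderOf_eq_one t)
        have h4 := four_dvd_card_support (α := Sylow 11 S) (hto ▸ pow_orderOf_eq_one t)
          (CfsgLib.Small.sign_toPerm hnc t)
        have h5 : (fixFinset (Sylow 11 S) t).card =
            ((Finset.univ.erase Q).filter fun R => t • R = R).card + 1 := by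
          have hQt : t • Q = Q := Sylow.smul_eq_iff_mem_normalizer.2 ht
          rw [Finset.filter_erase]
          exact (Finset.card_erase_add_one (mem_fixFinset.2 hQt : Q ∈ fixFinset (Sylow 11 S) t)).symm
        rw [h12'] at h3 h4
        rw [Nat.ModEq] at h3
        omega
      · rw [Finset.mem_erase] at hR
        obtain ⟨j, hj⟩ := exists_card_orbit_eq_pow Q R
        have h0 : j ≠ 0 := fun h => card_orbit_ne_one (Ne.symm hR.1) (by rw [hj, h, pow_zero])
        have h1 : Nat.card (orbit (Q : Subgroup S) R) ∣ 11 :=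
          (Dvd.intro _ (card_orbit_mul_card_inf Q R)).trans (dvd_of_eq (hQ Q))
        exact ((Fact.out : Nat.Prime 11).eq_one_or_self_of_dvd _ h1).resolve_left
          (card_orbit_ne_one (Ne.symm hR.1))
  · -- `C` contains a subgroup of order 7 with a large normalizer
    haveI : Fact (Nat.Prime 7) := ⟨by norm_num⟩
    have h7m : 7 ∣ m := by
      rcases hbig with h | h
      · exact (show 7 ∣ 35 by norm_num).trans h
      · exact h ▸ ⟨16, rfl⟩
    obtain ⟨m', rfl⟩ := h7m
    have hm'80 : m' ∣ 80 := Nat.dvd_of_mul_dvd_mul_left (show 0 < 7 by norm_num) hm560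
    have h7m' : ¬ 7 ∣ 3 * m' := fun h => by
      have := h.trans (Nat.mul_dvd_mul_left 3 hm'80)
      norm_num at this
    obtain ⟨T⟩ := (inferInstance : Nonempty (Sylow 7 C))
    have hT : Nat.card T = 7 := by
      rw [CfsgLib.Small.card_sylow_of_card_eq (k := 1) (m := 3 * m') (by rw [hm]; ring) h7m' T, pow_one]
    set R := (T : Subgroup C).map C.subtype with hR
    have hRcard : Nat.card R = 7 := by
      rw [hR, Subgroup.card_map_of_injective C.subtype_injective]
      exact hT
    have hRC : R ≤ C := Subgroup.map_subtype_le _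
    set M := Subgroup.normalizer ((T : Subgroup C) : Set C) with hM
    have hMmul : Nat.card M * Nat.card (Sylow 7 C) = 3 * (7 * m') :=
      (CfsgLib.Small.card_normalizer_mul_card_sylow T).trans hm
    have h21 : 21 ∣ Nat.card M := by
      have hxC : x ∈ C := by
        rw [hC, Subgroup.mem_centralizer_iff]
        intro b hb
        haveI : IsCyclic (P : Subgroup S) := isCyclic_of_prime_card (hP P)
        letI := IsCyclic.commGroup (α := (P : Subgroup S))
        exact congrArg Subtype.val (mul_comm (⟨b, hb⟩ : (P : Subgroup S)) ⟨x, hx⟩)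
      have hxM : (⟨x, hxC⟩ : C) ∈ M := by
        apply Subgroup.centralizer_le_normalizer
        rw [Subgroup.mem_centralizer_iff]
        intro b _
        exact Subtype.ext (hCx b b.2)
      have h3 : 3 ∣ Nat.card M := by
        have := M.orderOf_dvd_natCard hxM
        rwa [Subgroup.orderOf_mk, hxo] at this
      have h7 : 7 ∣ Nat.card M := hT ▸ Subgroup.card_dvd_of_le Subgroup.le_normalizer
      exact (show Nat.Coprime 3 7 by norm_num).mul_dvd_of_dvd_of_dvd h3 h7
    obtain ⟨a, ha⟩ := h21
    have hn7 : Nat.card (Sylow 7 C) = 1 ∨ Nat.card (Sylow 7 C) = 8 := by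
      have h1 : Nat.card (Sylow 7 C) ∣ m' := by
        refine Dvd.intro_left a (Nat.eq_of_mul_eq_mul_left (show 0 < 21 by norm_num) ?_)
        rw [← mul_assoc, ← ha, hMmul]; ring
      have h2 := h1.trans hm'80
      have h3 : Nat.card (Sylow 7 C) % 7 = 1 := card_sylow_modEq_one 7 C
      have h4 : ∀ d ∈ Nat.divisors 80, d % 7 = 1 → d = 1 ∨ d = 8 := by decide
      exact h4 _ (Nat.mem_divisors.2 ⟨h2, by norm_num⟩) h3
    -- the only Sylow 3-subgroup fixed by an element of order 7 in `C` is `P`
    obtain ⟨⟨r, hr⟩, hr0⟩ := Subgroup.ne_bot_iff_exists_ne_one.1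
      (show R ≠ ⊥ from fun h => by rw [h, Subgroup.card_bot] at hRcard; omega)
    have hr1 : r ≠ 1 := fun h => hr0 (Subtype.ext h)
    have hro : orderOf r = 7 := by
      have h := R.orderOf_dvd_natCard hr
      rw [hRcard] at h
      exact ((Fact.out : Nat.Prime 7).eq_one_or_self_of_dvd _ h).resolve_left (by simpa using hr1)
    have hrfix : fixFinset (Sylow 3 S) r = {P} := by
      have h1 := card_fix_modEq (α := Sylow 3 S) (y := r) (r := 7) (hro ▸ pow_orderOf_eq_one r)
      rw [hn', Nat.ModEq] at h1
      have h2 := hf3 r (hRC hr)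
      have h3 := hfixlt r hr1
      have hone : (fixFinset (Sylow 3 S) r).card = 1 := by omega
      obtain ⟨Z, hZ⟩ := Finset.card_eq_one.1 hone
      have hP' : P ∈ fixFinset (Sylow 3 S) r := mem_fixFinset.2 (hCfix r (hRC hr))
      rw [hZ, Finset.mem_singleton] at hP'
      rw [hZ, hP']
    have hcomm_case : ∀ c ∈ C, c * r = r * c → c ≠ 1 →
        ∀ q : ℕ, q.Prime → c ^ q = 1 → (q = 2 ∨ q = 5) → False := by
      intro c hc hcr hc1 q hq hcq hq25
      haveI := Fact.mk hq
      have h1 := card_fix_modEq (α := Sylow 3 S) (y := c) (r := q) hcq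
      rw [hn', Nat.ModEq] at h1
      have h2 := hf3 c hc
      have h3 := card_fix_modEq_common (α := Sylow 3 S) (x := c) (y := r) (r := 7)
        (hro ▸ pow_orderOf_eq_one r) hcr
      have h4 : ((fixFinset (Sylow 3 S) c).filter fun Z => r • Z = Z) = {P} := by
        ext Z
        rw [Finset.mem_filter, ← mem_fixFinset (g := r), hrfix, Finset.mem_singleton, mem_fixFinset]
        exact ⟨fun h => h.2, fun h => ⟨h ▸ hCfix c hc, h⟩⟩
      rw [h4, Finset.card_singleton, Nat.ModEq] at h3
      have h5 := hfixlt c hc1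
      rcases hq25 with rfl | rfl <;> omega
    have hnormR : ∀ c : C, c ∈ M → (c : S) ∈ Subgroup.normalizer (R : Set S) := by
      intro c hc
      exact Subgroup.le_normalizer_map C.subtype ⟨c, hc, rfl⟩
    rcases hbig with h35 | h112
    · -- an element of order 5 normalising, hence centralising, `R`
      haveI : Fact (Nat.Prime 5) := ⟨Nat.prime_five⟩
      have h5 : 5 ∣ Nat.card M := by
        have h1 : 5 ∣ Nat.card M * Nat.card (Sylow 7 C) :=
          hMmul ▸ dvd_mul_of_dvd_right ((show 5 ∣ 35 by norm_num).trans h35) 3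
        refine (Nat.prime_five.dvd_mul.1 h1).resolve_right fun h => ?_
        rcases hn7 with e | e <;> rw [e] at h <;> norm_num at h
      obtain ⟨⟨⟨c, hc⟩, hcM⟩, hco⟩ := exists_prime_orderOf_dvd_card' (G := M) 5 h5
      rw [Subgroup.orderOf_mk, Subgroup.orderOf_mk] at hco
      have hcN := hnormR ⟨c, hc⟩ hcM
      haveI : IsCyclic R := isCyclic_of_prime_card hRcard
      have h1 : orderOf (R.normalizerMonoidHom ⟨c, hcN⟩) ∣ 5 := by
        have := orderOf_map_dvd R.normalizerMonoidHom ⟨c, hcN⟩
        rwa [Subgroup.orderOf_mk, hco] at this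
      have h2 : orderOf (R.normalizerMonoidHom ⟨c, hcN⟩) ∣ 6 := by
        have := orderOf_dvd_natCard (R.normalizerMonoidHom ⟨c, hcN⟩)
        rwa [IsCyclic.card_mulAut, hRcard, Nat.totient_prime (by norm_num)] at this
      have h3 : R.normalizerMonoidHom ⟨c, hcN⟩ = 1 :=
        orderOf_eq_one_iff.1 (Nat.dvd_one.1 ((show Nat.gcd 5 6 = 1 by norm_num) ▸ Nat.dvd_gcd h1 h2))
      have h4 : (⟨c, hcN⟩ : Subgroup.normalizer (R : Set S)) ∈ R.normalizerMonoidHom.ker := h3
      rw [Subgroup.normalizerMonoidHom_ker, Subgroup.mem_subgroupOf, Subgroup.mem_centralizer_iff] at h4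
      refine hcomm_case c hc (h4 r hr).symm ?_ 5 Nat.prime_five (hco ▸ pow_orderOf_eq_one c) (Or.inr rfl)
      intro h
      rw [h, orderOf_one] at hco
      norm_num at hco
    · haveI : Fact (Nat.Prime 2) := ⟨Nat.prime_two⟩
      have h2 : 2 ∣ Nat.card M := by
        have hm16 : m' = 16 := by omega
        rw [hm16] at hMmul
        rcases hn7 with e | e <;> rw [e] at hMmul <;> omega
      obtain ⟨⟨⟨t, htC⟩, htM⟩, hto⟩ := exists_prime_orderOf_dvd_card' (G := M) 2 h2
      rw [Subgroup.orderOf_mk, Subgroup.orderOf_mk] at hto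
      have ht2 : t ^ 2 = 1 := hto ▸ pow_orderOf_eq_one t
      have ht1 : t ≠ 1 := fun h => by rw [h, orderOf_one] at hto; norm_num at hto
      have htN := hnormR ⟨t, htC⟩ htM
      by_cases htc : t ∈ Subgroup.centralizer (R : Set S)
      · exact hcomm_case t htC (Subgroup.mem_centralizer_iff.1 htc r hr).symm ht1 2
          Nat.prime_two ht2 (Or.inl rfl)
      have hAinv : ∀ Z ∈ Finset.univ.erase P, ∀ u ∈ R, u • Z ∈ Finset.univ.erase P := by
        intro Z hZ u hu
        rw [Finset.mem_erase] at hZ ⊢
        refine ⟨fun h => hZ.1 ?_, Finset.mem_univ _⟩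
        rw [← hCfix u (hRC hu)] at h
        exact MulAction.injective u h
      have h1 := card_eq_card_image_mul R (Finset.univ.erase P) (s := 7) hAinv (fun Z hZ => ?_)
      · rw [Finset.card_erase_of_mem (Finset.mem_univ P), Finset.card_univ, hn'] at h1
        have h2 := card_fix_le_card_image (α := Sylow 3 S) hRcard htN htc (Finset.univ.erase P)
        have h3 := card_fix_modEq (α := Sylow 3 S) (y := t) (r := 2) ht2
        have h4 := four_dvd_card_support (α := Sylow 3 S) ht2 (CfsgLib.Small.sign_toPerm hnc t)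
        have h5 : (fixFinset (Sylow 3 S) t).card =
            ((Finset.univ.erase P).filter fun Z => t • Z = Z).card + 1 := by
          rw [Finset.filter_erase]
          exact (Finset.card_erase_add_one
            (mem_fixFinset.2 (hCfix t htC) : P ∈ fixFinset (Sylow 3 S) t)).symm
        have h6 := hf3 t htC
        rw [hn'] at h3 h4
        exact arith_fix_four h1 h2 h5 h3 h4 h6
      · rw [Finset.mem_erase] at hZ
        have hdiv : Nat.card (orbit R Z) ∣ 7 := by
          rw [Nat.card_congr (orbitEquivQuotientStabilizer R Z), ← Subgroup.index_eq_card]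
          exact (Subgroup.index_dvd_card _).trans (dvd_of_eq hRcard)
        refine ((Fact.out : Nat.Prime 7).eq_one_or_self_of_dvd _ hdiv).resolve_left fun hone => ?_
        apply hZ.1
        have hmem : r • Z = Z := by
          haveI := (Nat.card_eq_one_iff_unique.1 hone).1
          exact congrArg Subtype.val (Subsingleton.elim
            (⟨r • Z, ⟨⟨r, hr⟩, rfl⟩⟩ : orbit R Z) ⟨Z, mem_orbit_self Z⟩)
        rw [← mem_fixFinset, hrfix, Finset.mem_singleton] at hmem
        exact hmem

end CfsgLib.SylowNumber
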