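import Mathlib

/-!
No group has exactly 35 Sylow 17-subgroups.
-/

set_option autoImplicit false

namespace CfsgLib.SylowThirtyFive

open MulAction Subgroup
open scoped Pointwise

universe u

variable {G : Type u} [Group G] [Finite G]

local instance fact17 : Fact (Nat.Prime 17) := ⟨by norm_num⟩

theorem mem_of_fix {x : G} {k : ℕ} (hx : x ^ 17 ^ k = 1) {Q : Sylow 17 G} (h : x • Q = Q) :
    x ∈ (Q : Subgroup G) := by
  have hz : IsPGroup 17 (zpowers x) := by
    obtain ⟨j, -, hj⟩ := (Nat.dvd_prime_pow fact17.out).1 (orderOf_dvd_of_pow_eq_one hx)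
    exact IsPGroup.of_card (n := j) (by rw [Nat.card_zpowers, hj])
  have h1 : x ∈ zpowers x ⊓ normalizer (Q : Set G) :=
    mem_inf.2 ⟨mem_zpowers x, Sylow.smul_eq_iff_mem_normalizer.1 h⟩
  rw [hz.inf_normalizer_sylow Q] at h1
  exact (mem_inf.1 h1).2

theorem mem_of_fix_of_mem {x : G} {P Q : Sylow 17 G} (hx : x ∈ (P : Subgroup G)) (h : x • Q = Q) :
    x ∈ (Q : Subgroup G) := by
  obtain ⟨k, hk⟩ := P.isPGroup' ⟨x, hx⟩
  exact mem_of_fix (congrArg Subtype.val hk) h

theorem smul_self_of_mem {x : G} {P : Sylow 17 G} (hx : x ∈ (P : Subgroup G)) : x • P = P :=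
  Sylow.smul_eq_iff_mem_normalizer.2 (le_normalizer hx)

theorem conj_mem_of_smul {x g : G} {P : Sylow 17 G} (hg : g • P = P) (hx : x ∈ (P : Subgroup G)) :
    g * x * g⁻¹ ∈ (P : Subgroup G) :=
  (mem_normalizer_iff.1 (Sylow.smul_eq_iff_mem_normalizer.1 hg) x).1 hx

variable (h35 : Nat.card (Sylow 17 G) = 35)
include h35

theorem ncard_orbit {P Q : Sylow 17 G} (hne : Q ≠ P) :
    (orbit (P : Subgroup G) Q).ncard = 17 := by
  rw [← index_stabilizer]
  obtain ⟨n, hn⟩ := P.isPGroup'.exists_card_eq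
  obtain ⟨k, -, hk⟩ := (Nat.dvd_prime_pow fact17.out).1
    (hn ▸ (stabilizer (P : Subgroup G) Q).index_dvd_card)
  have hle : (stabilizer (P : Subgroup G) Q).index ≤ 34 := by
    rw [index_stabilizer]
    have h1 : orbit (P : Subgroup G) Q ⊆ {P}ᶜ := by
      rintro _ ⟨x, rfl⟩ he
      have he' : (x : G) • Q = P := he
      exact hne (by rw [eq_inv_smul_iff.2 he', smul_self_of_mem (inv_mem x.2)])
    calc (orbit (P : Subgroup G) Q).ncard ≤ ({P}ᶜ : Set (Sylow 17 G)).ncard := Set.ncard_le_ncard h1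
      _ = 34 := by rw [Set.ncard_compl, Set.ncard_singleton, h35]
  rcases k with _ | _ | k
  · exfalso
    rw [pow_zero, index_eq_one] at hk
    apply hne
    apply Sylow.ext
    refine (eq_of_le_of_card_ge (fun x hx => mem_of_fix_of_mem hx ?_) ?_).symm
    · exact (show (⟨x, hx⟩ : (P : Subgroup G)) ∈ stabilizer (P : Subgroup G) Q from hk ▸ mem_top _)
    · rw [Q.card_eq_multiplicity, P.card_eq_multiplicity]
  · rw [hk, pow_one]
  · rw [hk] at hle
    have : 17 ^ 2 ≤ 17 ^ (k + 1 + 1) := Nat.pow_le_pow_right (by norm_num) (by omega)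
    omega

theorem ne_of_mem_orbit {P Q U : Sylow 17 G} (hne : Q ≠ P) (h : U ∈ orbit (P : Subgroup G) Q) :
    U ≠ P := by
  obtain ⟨x, rfl⟩ := h
  intro he
  have he' : (x : G) • Q = P := he
  exact hne (by rw [eq_inv_smul_iff.2 he', smul_self_of_mem (inv_mem x.2)])

theorem cover {P Q Q' : Sylow 17 G} (hQ : Q ≠ P) (hQ' : Q' ≠ P)
    (hnot : Q' ∉ orbit (P : Subgroup G) Q) {U : Sylow 17 G} (hU : U ≠ P) :
    U ∈ orbit (P : Subgroup G) Q ∨ U ∈ orbit (P : Subgroup G) Q' := by
  have hdisj : Disjoint (orbit (P : Subgroup G) Q) (orbit (P : Subgroup G) Q') := by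
    rw [Set.disjoint_left]
    intro V hV hV'
    apply hnot
    rw [← orbit_eq_iff.2 hV, orbit_eq_iff.2 hV']
    exact mem_orbit_self Q'
  have hsub : orbit (P : Subgroup G) Q ∪ orbit (P : Subgroup G) Q' ⊆ {P}ᶜ := by
    rintro V (hV | hV)
    · exact ne_of_mem_orbit h35 hQ hV
    · exact ne_of_mem_orbit h35 hQ' hV
  have heq : orbit (P : Subgroup G) Q ∪ orbit (P : Subgroup G) Q' = {P}ᶜ := by
    refine Set.eq_of_subset_of_ncard_le hsub ?_
    rw [Set.ncard_union_eq hdisj, ncard_orbit h35 hQ, ncard_orbit h35 hQ', Set.ncard_compl,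
      Set.ncard_singleton, h35]
  have : U ∈ ({P}ᶜ : Set (Sylow 17 G)) := hU
  rwa [← heq] at this

theorem exists_other {P Q : Sylow 17 G} (hQ : Q ≠ P) :
    ∃ Q', Q' ≠ P ∧ Q' ∉ orbit (P : Subgroup G) Q := by
  by_contra hcon
  push Not at hcon
  have h1 : ({P}ᶜ : Set (Sylow 17 G)) ⊆ orbit (P : Subgroup G) Q := fun U hU => hcon U hU
  have h2 := Set.ncard_le_ncard h1
  rw [Set.ncard_compl, Set.ncard_singleton, h35, ncard_orbit h35 hQ] at h2
  omega

variable (hfaith : ∀ g : G, (∀ Q : Sylow 17 G, g • Q = Q) → g = 1)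
include hfaith

omit h35 hfaith in
theorem fix_orbit {P Q U : Sylow 17 G} (hcomm : ∀ x ∈ (P : Subgroup G), ∀ y ∈ (P : Subgroup G),
    x * y = y * x) {x : G} (hx : x ∈ (P : Subgroup G)) (h : x • Q = Q)
    (hU : U ∈ orbit (P : Subgroup G) Q) : x • U = U := by
  obtain ⟨y, rfl⟩ := hU
  show x • ((y : G) • Q) = (y : G) • Q
  rw [← mul_smul, hcomm x hx y y.2, mul_smul, h]

/-- In order `17²`: an element fixing one orbit pointwise and moving the fixed point. -/
theorem exists_swap (hc : ∀ P : Sylow 17 G, Nat.card (P : Subgroup G) = 17 ^ 2)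
    {P R S : Sylow 17 G} (hR : R ≠ P) (hS : S ≠ P) (hnot : S ∉ orbit (P : Subgroup G) R) :
    ∃ c : G, (∀ U ∈ orbit (P : Subgroup G) S, c • U = U) ∧ c • R = R ∧ c • P ≠ P := by
  have hcomm : ∀ Q : Sylow 17 G, ∀ x ∈ (Q : Subgroup G), ∀ y ∈ (Q : Subgroup G),
      x * y = y * x := by
    intro Q x hx y hy
    haveI : IsMulCommutative (Q : Subgroup G) :=
      IsPGroup.isMulCommutative_of_card_eq_prime_sq (hc Q)
    exact congrArg Subtype.val
      ((IsMulCommutative.is_comm).comm (⟨x, hx⟩ : (Q : Subgroup G)) ⟨y, hy⟩)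
  have hstab : ∀ P' Q : Sylow 17 G, Q ≠ P' → ∃ b ∈ (P' : Subgroup G), b • Q = Q ∧ b ≠ 1 := by
    intro P' Q hne
    have h1 := Subgroup.card_mul_index (stabilizer (P' : Subgroup G) Q)
    rw [index_stabilizer, ncard_orbit h35 hne, hc P'] at h1
    obtain ⟨b, hb, hb1⟩ := (Subgroup.bot_or_exists_ne_one (stabilizer (P' : Subgroup G) Q)).resolve_left
      (fun h => by rw [h, card_bot] at h1; norm_num at h1)
    exact ⟨b, b.2, hb, fun e => hb1 (Subtype.ext e)⟩
  obtain ⟨b, hbP, hbR, hb1⟩ := hstab P R hR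
  have hbR' : b ∈ (R : Subgroup G) := mem_of_fix_of_mem hbP hbR
  have hbS : b • S ≠ S := by
    intro hbS
    refine hb1 (hfaith b fun U => ?_)
    by_cases hU : U = P
    · rw [hU, smul_self_of_mem hbP]
    rcases cover h35 hR hS hnot hU with h | h
    · exact fix_orbit (hcomm P) hbP hbR h
    · exact fix_orbit (hcomm P) hbP hbS h
  have hSR : S ≠ R := fun e => hnot (by rw [e]; exact mem_orbit_self R)
  have horb : orbit (P : Subgroup G) S = orbit (R : Subgroup G) S := by
    have hz : orbit (zpowers b) S ⊆ orbit (P : Subgroup G) S := by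
      rintro _ ⟨⟨x, hx⟩, rfl⟩
      exact ⟨⟨x, zpowers_le.2 hbP hx⟩, rfl⟩
    have hzR : orbit (zpowers b) S ⊆ orbit (R : Subgroup G) S := by
      rintro _ ⟨⟨x, hx⟩, rfl⟩
      exact ⟨⟨x, zpowers_le.2 hbR' hx⟩, rfl⟩
    have hcard : 17 ≤ (orbit (zpowers b) S).ncard := by
      rw [← index_stabilizer]
      obtain ⟨k, -, hk⟩ := (Nat.dvd_prime_pow fact17.out).1 ((index_dvd_card
        (stabilizer (zpowers b) S)).trans (by
          rw [Nat.card_zpowers, ← hc P, ← Subgroup.orderOf_mk b hbP]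
          exact _root_.orderOf_dvd_natCard _))
      rcases k with _ | k
      · exfalso
        rw [pow_zero, index_eq_one] at hk
        exact hbS (show (⟨b, mem_zpowers b⟩ : zpowers b) ∈ stabilizer (zpowers b) S from
          hk ▸ mem_top _)
      · rw [hk]
        exact Nat.le_self_pow (Nat.succ_ne_zero k) 17
    have e1 : orbit (zpowers b) S = orbit (P : Subgroup G) S :=
      Set.eq_of_subset_of_ncard_le hz ((ncard_orbit h35 hS).le.trans hcard)
    have e2 : orbit (zpowers b) S = orbit (R : Subgroup G) S :=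
      Set.eq_of_subset_of_ncard_le hzR ((ncard_orbit h35 hSR).le.trans hcard)
    rw [← e1, e2]
  obtain ⟨c, hcR, hcS, hc1⟩ := hstab R S hSR
  refine ⟨c, fun U hU => fix_orbit (hcomm R) hcR hcS (horb ▸ hU), smul_self_of_mem hcR, fun hcP => ?_⟩
  refine hc1 (hfaith c fun U => ?_)
  by_cases hU : U = R
  · rw [hU, smul_self_of_mem hcR]
  have hPnot : P ∉ orbit (R : Subgroup G) S := fun h =>
    ne_of_mem_orbit h35 hS (horb ▸ h) rfl
  rcases cover h35 hSR (Ne.symm hR) hPnot hU with h | h
  · exact fix_orbit (hcomm R) hcR hcS h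
  · exact fix_orbit (hcomm R) hcR hcP h

theorem card_sylow_ne_sq (P : Sylow 17 G) : Nat.card (P : Subgroup G) ≠ 17 ^ 2 := by
  intro hP
  have hc : ∀ Q : Sylow 17 G, Nat.card (Q : Subgroup G) = 17 ^ 2 := fun Q => by
    rw [Q.card_eq_multiplicity, ← P.card_eq_multiplicity, hP]
  haveI : Nontrivial (Sylow 17 G) := Finite.one_lt_card_iff_nontrivial.1 (by omega)
  obtain ⟨R, hR⟩ := exists_ne P
  obtain ⟨S, hS, hnot⟩ := exists_other h35 hR
  have hnot' : R ∉ orbit (P : Subgroup G) S := fun h => hnot (mem_orbit_symm.1 h)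
  obtain ⟨c, hcS, hcR, hcP⟩ := exists_swap h35 hfaith hc hR hS hnot
  obtain ⟨d, hdR, hdS, hdP⟩ := exists_swap h35 hfaith hc hS hR hnot'
  have hc' : ∀ U ∈ orbit (P : Subgroup G) S, c⁻¹ • U = U := fun U hU =>
    inv_smul_eq_iff.2 (hcS U hU).symm
  have h1 : c • P ∈ orbit (P : Subgroup G) R := (cover h35 hR hS hnot hcP).resolve_right
    fun h => hcP ((smul_left_cancel c (hcS _ h)))
  have hcP' : c⁻¹ • P ≠ P := fun h => hcP (eq_inv_smul_iff.1 h.symm)
  have h2 : c⁻¹ • P ∈ orbit (P : Subgroup G) R := (cover h35 hR hS hnot hcP').resolve_right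
    fun h => hcP' ((smul_left_cancel c⁻¹ (hc' _ h)))
  have h3 : d • P ∈ orbit (P : Subgroup G) S := (cover h35 hR hS hnot hdP).resolve_left
    fun h => hdP ((smul_left_cancel d (hdR _ h)))
  set g := c⁻¹ * d * c with hg
  have hgP : g • P = P := by rw [hg, mul_smul, mul_smul, hdR _ h1, inv_smul_smul]
  have hgR : g • R = R := by
    rw [hg, mul_smul, mul_smul, hcR, hdR _ (mem_orbit_self R), inv_smul_eq_iff, hcR]
  have hgx : g • (c⁻¹ • P) = d • P := by
    rw [hg, mul_smul, mul_smul, smul_inv_smul, hc' _ h3]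
  obtain ⟨x, hx⟩ := h2
  have hx' : (x : G) • R = c⁻¹ • P := hx
  apply hnot
  have h4 : d • P ∈ orbit (P : Subgroup G) R := by
    refine ⟨⟨g * x * g⁻¹, conj_mem_of_smul hgP x.2⟩, ?_⟩
    show (g * (x : G) * g⁻¹) • R = d • P
    rw [mul_smul, inv_smul_eq_iff.2 hgR.symm, mul_smul, hx', hgx]
  rw [← orbit_eq_iff.2 h4, orbit_eq_iff.2 h3]
  exact mem_orbit_self S

omit hfaith in
theorem card_le_sq (hfaith : ∀ g : G, (∀ Q : Sylow 17 G, g • Q = Q) → g = 1) (P : Sylow 17 G) :
    Nat.card (P : Subgroup G) ∣ 17 ^ 2 := by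
  have hinj : Function.Injective (MulAction.toPermHom G (Sylow 17 G)) :=
    (injective_iff_map_eq_one _).2 fun g hg => hfaith g fun Q => DFunLike.congr_fun hg Q
  have h1 := Subgroup.card_dvd_of_injective _ hinj
  rw [Nat.card_perm, h35] at h1
  obtain ⟨k, hk⟩ := P.isPGroup'.exists_card_eq
  rw [hk]
  refine pow_dvd_pow 17 ?_
  have h2 : 17 ^ k ∣ Nat.factorial 35 := hk ▸ ((card_subgroup_dvd_card _).trans h1)
  have h3 := (Nat.Prime.pow_dvd_iff_le_factorization fact17.out (Nat.factorial_ne_zero _)).1 h2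
  rw [Nat.factorization_def _ fact17.out, padicValNat_factorial (b := 2)
    (Nat.log_lt_of_lt_pow (by norm_num) (by norm_num))] at h3
  simpa using h3

omit h35 hfaith in
theorem no595 {M : Type u} [Group M] [Finite M] (hM : Nat.card M = 595)
    (h : Nat.card (Sylow 17 M) = 35) : False := by
  haveI : Fact (Nat.Prime 7) := ⟨by norm_num⟩
  obtain ⟨R⟩ : Nonempty (Sylow 7 M) := inferInstance
  have hR7 : Nat.card (R : Subgroup M) = 7 := by
    rw [R.card_eq_multiplicity, hM, show (595 : ℕ) = 7 * 85 by norm_num,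
      Nat.factorization_mul (by norm_num) (by norm_num), Finsupp.add_apply,
      Nat.Prime.factorization_self (by norm_num), Nat.factorization_eq_zero_of_not_dvd (by norm_num)]
    norm_num
  have hidx : (R : Subgroup M).index = 85 := by
    have := (R : Subgroup M).card_mul_index
    rw [hR7, hM] at this
    omega
  obtain ⟨P⟩ : Nonempty (Sylow 17 M) := inferInstance
  have hP17 : Nat.card (P : Subgroup M) = 17 := by
    rw [P.card_eq_multiplicity, hM, show (595 : ℕ) = 17 * 35 by norm_num,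
      Nat.factorization_mul (by norm_num) (by norm_num), Finsupp.add_apply,
      Nat.Prime.factorization_self (by norm_num), Nat.factorization_eq_zero_of_not_dvd (by norm_num)]
    norm_num
  have hNP : (normalizer (P : Set M)) = P := by
    refine (eq_of_le_of_card_ge le_normalizer ?_).symm
    have h1 := (normalizer (P : Set M)).card_mul_index
    rw [← Sylow.card_eq_index_normalizer, h, hM] at h1
    show Nat.card (normalizer (P : Set M)) ≤ Nat.card (P : Subgroup M)
    rw [hP17]
    omega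
  have h85 : Nat.card (Sylow 7 M) ∣ 85 := hidx ▸ R.card_dvd_index
  have hmod := card_sylow_modEq_one 7 M
  have hcases : Nat.card (Sylow 7 M) = 1 ∨ Nat.card (Sylow 7 M) = 85 := by
    have h2 : Nat.card (Sylow 7 M) ∈ Nat.divisors 85 := Nat.mem_divisors.2 ⟨h85, by norm_num⟩
    rw [show Nat.divisors 85 = {1, 5, 17, 85} by decide] at h2
    simp only [Finset.mem_insert, Finset.mem_singleton] at h2
    rcases h2 with h2 | h2 | h2 | h2 <;> rw [h2] at hmod ⊢ <;> simp_all [Nat.ModEq]
  rcases hcases with h1 | h1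
  · -- `R` is normal, hence centralised by `P`
    haveI : Subsingleton (Sylow 7 M) := (Nat.card_eq_one_iff_unique.1 h1).1
    haveI hRn : (R : Subgroup M).Normal := R.normal_of_subsingleton
    haveI : Fact (Nat.Prime 7) := ⟨by norm_num⟩
    have hcen : (P : Subgroup M) ≤ centralizer ((R : Subgroup M) : Set M) := by
      intro x hx
      let f : (P : Subgroup M) →* MulAut (R : Subgroup M) :=
        (MulAut.conjNormal : M →* MulAut (R : Subgroup M)).comp (P : Subgroup M).subtype
      haveI : IsCyclic (R : Subgroup M) := isCyclic_of_prime_card hR7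
      have h2 : orderOf (f ⟨x, hx⟩) ∣ Nat.gcd 17 6 := Nat.dvd_gcd
        (((orderOf_map_dvd f _).trans (_root_.orderOf_dvd_natCard _)).trans hP17.dvd)
        ((_root_.orderOf_dvd_natCard _).trans (by
          rw [IsCyclic.card_mulAut, hR7, Nat.totient_prime (by norm_num)]))
      rw [show Nat.gcd 17 6 = 1 by decide, Nat.dvd_one, orderOf_eq_one_iff] at h2
      refine mem_centralizer_iff.2 fun y hy => ?_
      have h3 := congrArg Subtype.val (DFunLike.congr_fun h2 ⟨y, hy⟩)
      simp only [f, MonoidHom.comp_apply, MulAut.one_apply, MulAut.conjNormal_apply] at h3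
      exact (mul_inv_eq_iff_eq_mul.1 h3).symm
    have hle : (R : Subgroup M) ≤ P := by
      rw [← hNP]
      exact (le_centralizer_iff.1 hcen).trans (centralizer_le_normalizer _)
    have := card_dvd_of_le hle
    rw [hR7, hP17] at this
    norm_num at this
  · -- a normal 7-complement
    have hN : normalizer (R : Set M) = R := by
      refine (eq_of_le_of_card_ge le_normalizer ?_).symm
      have h2 := (normalizer (R : Set M)).card_mul_index
      rw [← Sylow.card_eq_index_normalizer, h1, hM] at h2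
      show Nat.card (normalizer (R : Set M)) ≤ Nat.card (R : Subgroup M)
      rw [hR7]
      omega
    haveI : IsCyclic (R : Subgroup M) := isCyclic_of_prime_card hR7
    have hle : normalizer (R : Set M) ≤ centralizer ((R : Subgroup M) : Set M) :=
      hN.le.trans (R : Subgroup M).le_centralizer
    have hK := MonoidHom.ker_transferSylow_isComplement' R hle
    set K := (MonoidHom.transferSylow R hle).ker
    have hKc : Nat.card K = 85 := by
      have := hK.card_mul_card
      rw [hR7, hM] at this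
      omega
    have hKi : K.index = 7 := by
      have := K.card_mul_index
      rw [hKc, hM] at this
      omega
    have hall : ∀ Q : Sylow 17 M, (Q : Subgroup M) ≤ K := fun Q x hx => by
      obtain ⟨j, hj⟩ := Q.isPGroup' ⟨x, hx⟩
      have h2 : (x : M) ^ 17 ^ j = 1 := congrArg Subtype.val hj
      rw [← QuotientGroup.eq_one_iff, ← orderOf_eq_one_iff, ← Nat.dvd_one,
        show (1 : ℕ) = Nat.gcd (17 ^ j) 7 from
          ((Nat.coprime_primes (by norm_num) (by norm_num)).2 (by norm_num : (17 : ℕ) ≠ 7)).pow_left j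
            |>.gcd_eq_one.symm]
      refine Nat.dvd_gcd (orderOf_dvd_of_pow_eq_one ?_) ((_root_.orderOf_dvd_natCard _).trans (hKi ▸ dvd_rfl))
      rw [← QuotientGroup.mk_pow, h2, QuotientGroup.mk_one]
    have hinj : Function.Injective (fun Q : Sylow 17 M => Q.subtype (hall Q)) :=
      fun Q Q' e => Sylow.subtype_injective e
    have h3 := Nat.card_le_card_of_injective _ hinj
    obtain ⟨PK⟩ : Nonempty (Sylow 17 K) := inferInstance
    have h4 : Nat.card (Sylow 17 K) ∣ 5 := by
      have h5 := PK.card_dvd_index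
      have h6 : Nat.card (PK : Subgroup K) = 17 := by
        rw [PK.card_eq_multiplicity, hKc, show (85 : ℕ) = 17 * 5 by norm_num,
          Nat.factorization_mul (by norm_num) (by norm_num), Finsupp.add_apply,
          Nat.Prime.factorization_self (by norm_num),
          Nat.factorization_eq_zero_of_not_dvd (by norm_num)]
        norm_num
      have h7 := (PK : Subgroup K).card_mul_index
      rw [h6, hKc] at h7
      rwa [show (PK : Subgroup K).index = 5 by omega] at h5
    have := Nat.le_of_dvd (by norm_num) h4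
    omega

omit hfaith in
/-- A cyclic Sylow 2-subgroup leads to a subgroup of order 595. -/
theorem false_of_cyclic_two (hcard : Nat.card G = 35 * (17 * 2 ^ 0)) : False :=
  no595 (M := G) (by rw [hcard]; norm_num) h35

omit hfaith in
theorem false_of_cyclic_two' {e : ℕ} (he : e ≠ 0) (hcard : Nat.card G = 595 * 2 ^ e)
    (T : Sylow 2 G) (hT : IsCyclic (T : Subgroup G)) : False := by
  have hmin : (Nat.card G).minFac = 2 := Nat.minFac_eq_two_iff _ |>.2
    (hcard ▸ dvd_mul_of_dvd_right (dvd_pow_self 2 he) _)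
  have hK := IsCyclic.isComplement' hmin hT
  set K := (MonoidHom.transferSylow T (hT.normalizer_le_centralizer hmin)).ker
  have hTc : Nat.card (T : Subgroup G) = 2 ^ e := by
    haveI : Fact (Nat.Prime 2) := ⟨Nat.prime_two⟩
    rw [T.card_eq_multiplicity, hcard, Nat.factorization_mul (by norm_num) (by positivity),
      Finsupp.add_apply, Nat.factorization_eq_zero_of_not_dvd (by norm_num),
      Nat.Prime.factorization_pow Nat.prime_two]
    simp
  have hKc : Nat.card K = 595 := by
    have := hK.card_mul_card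
    rw [hTc, hcard] at this
    exact Nat.eq_of_mul_eq_mul_right (by positivity) this
  have hKi : K.index = 2 ^ e := by
    have := K.card_mul_index
    rw [hKc, hcard] at this
    exact Nat.eq_of_mul_eq_mul_left (by norm_num) this
  have hall : ∀ Q : Sylow 17 G, (Q : Subgroup G) ≤ K := fun Q x hx => by
    obtain ⟨j, hj⟩ := Q.isPGroup' ⟨x, hx⟩
    have h2 : (x : G) ^ 17 ^ j = 1 := congrArg Subtype.val hj
    rw [← QuotientGroup.eq_one_iff, ← orderOf_eq_one_iff, ← Nat.dvd_one,
      show (1 : ℕ) = Nat.gcd (17 ^ j) (2 ^ e) from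
        ((Nat.coprime_primes (by norm_num) (by norm_num)).2 (by norm_num : (17 : ℕ) ≠ 2)).pow j e
          |>.gcd_eq_one.symm]
    refine Nat.dvd_gcd (orderOf_dvd_of_pow_eq_one ?_) ((_root_.orderOf_dvd_natCard _).trans (hKi ▸ dvd_rfl))
    rw [← QuotientGroup.mk_pow, h2, QuotientGroup.mk_one]
  apply no595 hKc
  rw [← h35]
  refine (Nat.card_congr (Equiv.ofBijective (fun Q : Sylow 17 G => Q.subtype (hall Q)) ⟨?_, ?_⟩)).symm
  · exact fun Q Q' e => Sylow.subtype_injective e
  · intro S
    obtain ⟨Q, hQ⟩ := (S.isPGroup'.map K.subtype).exists_le_sylow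
    refine ⟨Q, Sylow.ext (S.3 (Q.subtype (hall Q)).isPGroup' fun x hx => ?_)⟩
    exact hQ ⟨x, hx, rfl⟩

theorem false_of_card_seventeen (P : Sylow 17 G) (hP : Nat.card (P : Subgroup G) = 17) : False := by
  classical
  haveI hPc : IsCyclic (P : Subgroup G) := isCyclic_of_prime_card hP
  obtain ⟨⟨a, haP⟩, hgen⟩ := hPc.exists_zpow_surjective (G := (P : Subgroup G))
  have ha : orderOf a = 17 := by
    rw [← hP, ← Subgroup.orderOf_mk a haP]
    exact orderOf_eq_card_of_forall_mem_zpowers fun y => hgen y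
  have hPa : ∀ x ∈ (P : Subgroup G), ∃ i : ℤ, a ^ i = x := fun x hx => by
    obtain ⟨i, hi⟩ := hgen ⟨x, hx⟩
    exact ⟨i, congrArg Subtype.val hi⟩
  -- a power of `a` fixing another point is trivial
  have hzfix : ∀ (i : ℤ) (Q : Sylow 17 G), Q ≠ P → a ^ i • Q = Q → (17 : ℤ) ∣ i := by
    intro i Q hQ h
    have h1 : a ^ i ∈ (Q : Subgroup G) := mem_of_fix_of_mem (zpow_mem haP i) h
    rw [show (17 : ℤ) = ((17 : ℕ) : ℤ) from rfl, ← ha, orderOf_dvd_iff_zpow_eq_one]
    by_contra h2
    apply hQ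
    have hPQ : (P : Subgroup G) ≤ Q := by
      have h3 : zpowers (a ^ i) = (P : Subgroup G) := by
        refine eq_of_le_of_card_ge (zpowers_le.2 (zpow_mem haP i)) ?_
        rw [Nat.card_zpowers, orderOf_eq_prime (p := 17) ?_ h2, hP]
        rw [← zpow_natCast, ← zpow_mul, mul_comm, zpow_mul, zpow_natCast, ← ha, pow_orderOf_eq_one,
          one_zpow]
      rw [← h3]
      exact zpowers_le.2 h1
    exact (Sylow.ext (eq_of_le_of_card_ge hPQ (by
      rw [Q.card_eq_multiplicity, P.card_eq_multiplicity]))).symm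
  have hzone : ∀ i : ℤ, (17 : ℤ) ∣ i → a ^ i = 1 := fun i h => by
    rwa [show (17 : ℤ) = ((17 : ℕ) : ℤ) from rfl, ← ha, orderOf_dvd_iff_zpow_eq_one] at h
  have horb : ∀ Q U : Sylow 17 G, U ∈ orbit (P : Subgroup G) Q ↔ ∃ i : ℤ, a ^ i • Q = U := by
    intro Q U
    constructor
    · rintro ⟨x, rfl⟩
      obtain ⟨i, hi⟩ := hPa x x.2
      exact ⟨i, by rw [hi]; rfl⟩
    · rintro ⟨i, rfl⟩
      exact ⟨⟨a ^ i, zpow_mem haP i⟩, rfl⟩
  haveI : Nontrivial (Sylow 17 G) := Finite.one_lt_card_iff_nontrivial.1 (by omega)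
  obtain ⟨R, hR⟩ := exists_ne P
  set N := stabilizer G P with hNdef
  set K := stabilizer G P ⊓ stabilizer G R with hKdef
  have hKP : ∀ k ∈ K, k • P = P := fun k hk => (mem_inf.1 hk).1
  have hKR : ∀ k ∈ K, k • R = R := fun k hk => (mem_inf.1 hk).2
  have hKa : ∀ k ∈ K, ∃ r : ℤ, a ^ r = k * a * k⁻¹ := fun k hk =>
    hPa _ (conj_mem_of_smul (hKP k hk) haP)
  have hKconj : ∀ (k : G) (r : ℤ), a ^ r = k * a * k⁻¹ → ∀ i : ℤ, k * a ^ i = a ^ (r * i) * k := by
    intro k r hr i
    rw [zpow_mul, hr, conj_zpow]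
    group
  -- elements of `K` permute the two orbits
  have hKS : ∀ k ∈ K, ∀ S : Sylow 17 G, S ≠ P → S ∉ orbit (P : Subgroup G) R →
      k • S ∈ orbit (P : Subgroup G) S := by
    intro k hk S hS hnot
    refine (cover h35 hR hS hnot ?_).resolve_left fun h => hnot ?_
    · exact fun h => hS (smul_left_cancel k (h.trans (hKP k hk).symm))
    · obtain ⟨i, hi⟩ := (horb _ _).1 h
      obtain ⟨r, hr⟩ := hKa k⁻¹ (inv_mem hk)
      refine (horb _ _).2 ⟨r * i, ?_⟩
      have h1 : k⁻¹ * a ^ i = a ^ (r * i) * k⁻¹ := hKconj k⁻¹ r hr i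
      rw [eq_inv_smul_iff.2 hi.symm, ← mul_smul, h1, mul_smul, inv_smul_eq_iff.2 (hKR k hk).symm]
  have hKinj : ∀ k ∈ K, k * a = a * k → k = 1 := by
    intro k hk hka
    have hk17 : k ^ 17 = 1 := by
      refine hfaith _ fun U => ?_
      have hfix : ∀ (n : ℕ) (Q : Sylow 17 G) (j : ℤ), a ^ j • Q = k • Q →
          k ^ n • Q = a ^ (j * n) • Q := by
        intro n Q j hj
        induction n with
        | zero => simp
        | succ n ih =>
          rw [pow_succ', mul_smul, ih, ← mul_smul,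
            ((show Commute k a from hka).zpow_right (j * n)).eq, mul_smul, ← hj, ← mul_smul,
            ← zpow_add]
          congr 2
          push_cast
          ring
      by_cases hU : U = P
      · rw [hU]
        exact mem_stabilizer_iff.1 (pow_mem (show k ∈ stabilizer G P from hKP k hk) 17)
      by_cases hUR : U ∈ orbit (P : Subgroup G) R
      · obtain ⟨i, rfl⟩ := (horb _ _).1 hUR
        rw [← mul_smul, ((show Commute k a from hka).pow_left 17).zpow_right i |>.eq, mul_smul,
          mem_stabilizer_iff.1 (pow_mem (show k ∈ stabilizer G R from hKR k hk) 17)]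
      · obtain ⟨j, hj⟩ := (horb _ _).1 (hKS k hk U hU hUR)
        rw [hfix 17 U j hj, hzone (j * (17 : ℕ)) (dvd_mul_left _ _), one_smul]
    have h1 : k ∈ (P : Subgroup G) := mem_of_fix (k := 1) (by rw [pow_one, hk17]) (hKP k hk)
    obtain ⟨i, rfl⟩ := hPa k h1
    exact hzone i (hzfix i R hR (hKR _ hk))
  let χ : K →* MulAut (P : Subgroup G) :=
    ((P : Subgroup G).normalizerMonoidHom).comp
      (Subgroup.inclusion fun k hk => Sylow.smul_eq_iff_mem_normalizer.1 (hKP k hk))
  have hχ : Function.Injective χ := (injective_iff_map_eq_one χ).2 fun k hk => by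
    refine Subtype.ext (hKinj k k.2 ?_)
    have h1 := congrArg Subtype.val (DFunLike.congr_fun hk ⟨a, haP⟩)
    exact mul_inv_eq_iff_eq_mul.1 (show (k : G) * a * (k : G)⁻¹ = a from h1)
  haveI hKcyc : IsCyclic K := by
    haveI : Fact (Nat.Prime (Nat.card (P : Subgroup G))) := ⟨by rw [hP]; norm_num⟩
    exact isCyclic_of_injective ((IsCyclic.mulAutMulEquiv (P : Subgroup G)).toMonoidHom.comp χ)
      ((IsCyclic.mulAutMulEquiv _).injective.comp hχ)
  obtain ⟨e, -, hKe⟩ : ∃ e ≤ 4, Nat.card K = 2 ^ e := by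
    have h1 := Subgroup.card_dvd_of_injective χ hχ
    rw [IsCyclic.card_mulAut, hP, Nat.totient_prime (by norm_num)] at h1
    exact (Nat.dvd_prime_pow Nat.prime_two).1 (show Nat.card K ∣ 2 ^ 4 from h1)
  -- the order of the group
  have hN : Nat.card G = 35 * ((orbit N R).ncard * Nat.card K) := by
    have h1 := N.card_mul_index
    have h2 : N.index = 35 := by
      rw [hNdef, Sylow.stabilizer_eq_normalizer, ← Sylow.card_eq_index_normalizer, h35]
    have h3 := (stabilizer N R).card_mul_index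
    rw [index_stabilizer] at h3
    have h4 : Nat.card (stabilizer N R) = Nat.card K := Nat.card_congr
      { toFun := fun x => ⟨((x : N) : G), mem_inf.2 ⟨(x : N).2, x.2⟩⟩
        invFun := fun x => ⟨⟨(x : G), (mem_inf.1 x.2).1⟩, (mem_inf.1 x.2).2⟩
        left_inv := fun x => rfl
        right_inv := fun x => rfl }
    rw [← h1, h2, ← h3, h4]
    ring
  have hPN : orbit (P : Subgroup G) R ⊆ orbit N R := by
    rintro _ ⟨x, rfl⟩
    exact ⟨⟨x, mem_stabilizer_iff.2 (smul_self_of_mem x.2)⟩, rfl⟩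
  have hNP : orbit N R ⊆ {P}ᶜ := by
    rintro _ ⟨n, rfl⟩ h
    exact hR (smul_left_cancel (n : G) (Eq.trans h (mem_stabilizer_iff.1 n.2).symm))
  by_cases htrans : orbit N R ⊆ orbit (P : Subgroup G) R
  · rw [Set.Subset.antisymm htrans hPN, ncard_orbit h35 hR, hKe] at hN
    rcases Nat.eq_zero_or_pos e with rfl | he
    · exact false_of_cyclic_two h35 hN
    · haveI : Fact (Nat.Prime 2) := ⟨Nat.prime_two⟩
      have hcardG : Nat.card G = 595 * 2 ^ e := by rw [hN]; ring
      let T : Sylow 2 G := Sylow.ofCard K (by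
        rw [hcardG, Nat.factorization_mul (by norm_num) (by positivity),
          Finsupp.add_apply, Nat.factorization_eq_zero_of_not_dvd (by norm_num),
          Nat.Prime.factorization_pow Nat.prime_two, hKe]
        simp)
      exact false_of_cyclic_two' h35 he.ne' hcardG T hKcyc
  -- transitive on the remaining points
  obtain ⟨S, hSN, hnot⟩ := Set.not_subset.1 htrans
  have hS : S ≠ P := hNP hSN
  have hall : ∀ U, U ≠ P → U ∈ orbit N R := fun U hU => by
    rcases cover h35 hR hS hnot hU with h | h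
    · exact hPN h
    · obtain ⟨x, rfl⟩ := h
      obtain ⟨n, rfl⟩ := hSN
      exact ⟨⟨x, mem_stabilizer_iff.2 (smul_self_of_mem x.2)⟩ * n, mul_smul _ _ _⟩
  rcases Nat.eq_zero_or_pos e with rfl | he
  · have hcardG : Nat.card G = 595 * 2 ^ 1 := by
      rw [hN, Set.Subset.antisymm hNP fun U hU => hall U hU, Set.ncard_compl, Set.ncard_singleton,
        h35, hKe]
      norm_num
    haveI : Fact (Nat.Prime 2) := ⟨Nat.prime_two⟩
    obtain ⟨T⟩ : Nonempty (Sylow 2 G) := inferInstance
    refine false_of_cyclic_two' h35 one_ne_zero hcardG T (isCyclic_of_prime_card (p := 2) ?_)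
    rw [T.card_eq_multiplicity, hcardG, Nat.factorization_mul (by norm_num) (by norm_num),
      Finsupp.add_apply, Nat.factorization_eq_zero_of_not_dvd (by norm_num),
      Nat.Prime.factorization_pow Nat.prime_two]
    simp
  -- the involution of the two-point stabiliser fixes exactly three points
  haveI : Fact (Nat.Prime 2) := ⟨Nat.prime_two⟩
  obtain ⟨⟨t, htK⟩, ht⟩ := exists_prime_orderOf_dvd_card' (G := K) 2
    (hKe ▸ dvd_pow_self 2 he.ne')
  rw [Subgroup.orderOf_mk] at ht
  have hinv : ∀ k ∈ K, orderOf k = 2 → k * a * k⁻¹ = a⁻¹ := by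
    intro k hk hk2
    obtain ⟨r, hr⟩ := hKa k hk
    have hk' : k * k = 1 := by rw [← pow_two, ← hk2, pow_orderOf_eq_one]
    have h1 : a ^ (r * r - 1) = 1 := by
      have h2 := hKconj k r hr r
      rw [hr, ← mul_assoc, ← mul_assoc, hk', one_mul,
        show k⁻¹ = k from inv_eq_of_mul_eq_one_right hk'] at h2
      rw [zpow_sub, zpow_one, mul_inv_eq_one]
      exact (mul_right_cancel h2).symm
    rw [← orderOf_dvd_iff_zpow_eq_one, ha] at h1
    rw [show r * r - 1 = (r - 1) * (r + 1) by ring] at h1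
    rcases Int.Prime.dvd_mul' (by norm_num : Nat.Prime 17) h1 with h3 | h3
    · exfalso
      have h4 := hzone _ h3
      rw [zpow_sub, zpow_one, mul_inv_eq_one] at h4
      have h5 := hKinj k hk (mul_inv_eq_iff_eq_mul.1 (hr.symm.trans h4))
      rw [h5, orderOf_one] at hk2
      omega
    · have h4 := hzone _ h3
      rw [zpow_add, zpow_one] at h4
      rw [← hr, eq_inv_of_mul_eq_one_left h4]
  have huniq : ∀ k ∈ K, orderOf k = 2 → k = t := by
    intro k hk hk2
    have h1 := hinv k hk hk2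
    have h2 := hinv t htK ht
    have h3 : (k⁻¹ * t) * a = a * (k⁻¹ * t) := by
      have h4 : k * a * k⁻¹ = t * a * t⁻¹ := h1.trans h2.symm
      have h5 := congrArg (fun z => k⁻¹ * z * t) h4
      simp only [mul_assoc, inv_mul_cancel_left, inv_mul_cancel, mul_one] at h5
      simp only [mul_assoc]
      exact h5.symm
    exact (inv_mul_eq_one.1 (hKinj _ (mul_mem (inv_mem hk) htK) h3))
  have hconjt : ∀ i : ℤ, t * a ^ i = a ^ (-i) * t := fun i => by
    have := hKconj t (-1) (by rw [zpow_neg_one, hinv t htK ht]) i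
    rwa [neg_one_mul] at this
  obtain ⟨j, hj⟩ := (horb _ _).1 (hKS t htK S hS hnot)
  set γ := a ^ (9 * j) • S with hγ
  have hSorb : γ ∈ orbit (P : Subgroup G) S := (horb _ _).2 ⟨_, rfl⟩
  have hγP : γ ≠ P := ne_of_mem_orbit h35 hS hSorb
  have hγR : γ ≠ R := fun h => hnot (by rw [← h]; exact mem_orbit_symm.1 hSorb)
  have hfixγ : t • γ = γ := by
    rw [hγ, ← mul_smul, hconjt, mul_smul, ← hj, ← mul_smul, ← zpow_add,
      show -(9 * j) + j = 9 * j + 17 * (-j) by ring, zpow_add, hzone _ (dvd_mul_right _ _), mul_one]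
  have honly : ∀ U, t • U = U → U = P ∨ U = R ∨ U = γ := by
    intro U hU
    by_cases hUP : U = P
    · exact Or.inl hUP
    right
    rcases cover h35 hR hS hnot hUP with h | h
    · obtain ⟨i, rfl⟩ := (horb _ _).1 h
      left
      rw [← mul_smul, hconjt, mul_smul, hKR t htK, ← eq_inv_smul_iff, ← zpow_neg, ← mul_smul,
        ← zpow_add] at hU
      have h1 := hzfix _ R hR hU.symm
      have h2 : (17 : ℤ) ∣ i := by omega
      rw [hzone i h2, one_smul]
    · obtain ⟨i, rfl⟩ := (horb _ _).1 h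
      right
      rw [← mul_smul, hconjt, mul_smul, ← hj, ← mul_smul, ← zpow_add, ← eq_inv_smul_iff,
        ← zpow_neg, ← mul_smul, ← zpow_add] at hU
      have h1 := hzfix _ S hS hU.symm
      have h2 : (17 : ℤ) ∣ i - 9 * j := by omega
      rw [hγ, show i = (i - 9 * j) + 9 * j by ring, zpow_add, hzone _ h2, one_mul]
  -- the third fixed point of the involution of an ordered pair
  let Third : Sylow 17 G → Sylow 17 G → Sylow 17 G → Prop := fun x y z =>
    x ≠ y ∧ z ≠ x ∧ z ≠ y ∧ ∃ s : G, orderOf s = 2 ∧ s • x = x ∧ s • y = y ∧ s • z = z ∧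
      ∀ U, s • U = U → U = x ∨ U = y ∨ U = z
  have htr : ∀ x y : Sylow 17 G, x ≠ y → ∃ g : G, g • P = x ∧ g • R = y := by
    intro x y hxy
    obtain ⟨g₁, hg₁⟩ := MulAction.exists_smul_eq G P x
    obtain ⟨n, hn⟩ := hall (g₁⁻¹ • y) (fun h => hxy (by rw [← hg₁, ← h, smul_inv_smul]))
    refine ⟨g₁ * n, ?_, ?_⟩
    · rw [mul_smul, mem_stabilizer_iff.1 n.2, hg₁]
    · rw [mul_smul, show (n : G) • R = g₁⁻¹ • y from hn, smul_inv_smul]
  have hex : ∀ x y : Sylow 17 G, x ≠ y → ∃! z, Third x y z := by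
    intro x y hxy
    obtain ⟨g, rfl, rfl⟩ := htr x y hxy
    have hs : ∀ U : Sylow 17 G, (g * t * g⁻¹) • (g • U) = g • (t • U) := fun U => by
      rw [← mul_smul, ← mul_smul, inv_mul_cancel_right]
    refine ⟨g • γ, ⟨hxy, fun h => hγP (smul_left_cancel g h), fun h => hγR (smul_left_cancel g h),
      g * t * g⁻¹, ?_, ?_, ?_, ?_, ?_⟩, ?_⟩
    · rw [← ht]
      exact orderOf_injective (MulAut.conj g).toMonoidHom (MulAut.conj g).injective t
    · rw [hs, hKP t htK]
    · rw [hs, hKR t htK]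
    · rw [hs, hfixγ]
    · intro U hU
      obtain ⟨V, rfl⟩ : ∃ V, g • V = U := ⟨g⁻¹ • U, smul_inv_smul g U⟩
      rw [hs] at hU
      rcases honly V (smul_left_cancel g hU) with h | h | h <;> simp [h]
    · rintro z ⟨-, hzx, hzy, s, hs2, hsx, hsy, hsz, -⟩
      obtain ⟨V, rfl⟩ : ∃ V, g • V = z := ⟨g⁻¹ • z, smul_inv_smul g z⟩
      have hsK : g⁻¹ * s * g ∈ K := mem_inf.2
        ⟨by rw [mem_stabilizer_iff, mul_smul, mul_smul, hsx, inv_smul_smul],
         by rw [mem_stabilizer_iff, mul_smul, mul_smul, hsy, inv_smul_smul]⟩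
      have h2 : orderOf (g⁻¹ * s * g) = 2 := by
        rw [← hs2]
        conv_lhs => rw [show g⁻¹ * s * g = MulAut.conj g⁻¹ s by simp]
        exact orderOf_injective (MulAut.conj g⁻¹).toMonoidHom (MulAut.conj g⁻¹).injective s
      have h3 : t • V = V := by
        rw [← huniq _ hsK h2, mul_smul, mul_smul, hsz, inv_smul_smul]
      rcases honly V h3 with h | h | h
      · exact absurd (by rw [h]) hzx
      · exact absurd (by rw [h]) hzy
      · rw [h]
  choose f hf huf using fun x y (h : x ≠ y) => hex x y h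
  let D := {xy : Sylow 17 G × Sylow 17 G // xy.1 ≠ xy.2}
  let F : D → D := fun d => ⟨(d.1.2, f d.1.1 d.1.2 d.2), (hf _ _ d.2).2.2.1.symm⟩
  have hF3 : ∀ d, F (F (F d)) = d := by
    rintro ⟨⟨x, y⟩, hxy⟩
    obtain ⟨-, hzx, hzy, s, hs2, hsx, hsy, hsz, hso⟩ := hf x y hxy
    set z := f x y hxy
    have e1 : f y z hzy.symm = x := (huf y z hzy.symm x ⟨hzy.symm, hxy, hzx.symm, s, hs2, hsy, hsz,
      hsx, fun U hU => by rcases hso U hU with h | h | h <;> simp [h]⟩).symm
    refine Subtype.ext ?_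
    show (f y z hzy.symm, f z (f y z hzy.symm) _) = (x, y)
    refine Prod.ext e1 ?_
    show f z (f y z hzy.symm) _ = y
    have e2 : f z x hzx = y := (huf z x hzx y ⟨hzx, hzy.symm, hxy.symm, s, hs2, hsz, hsx,
      hsy, fun U hU => by rcases hso U hU with h | h | h <;> simp [h]⟩).symm
    have : ∀ (w : Sylow 17 G) (h : z ≠ w), w = x → f z w h = y := fun w h hw => by
      subst hw; exact e2
    exact this _ _ e1
  haveI : Fintype (Sylow 17 G) := Fintype.ofFinite _
  let σ : Equiv.Perm D := ⟨F, F ∘ F, hF3, hF3⟩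
  have hD : Fintype.card D = 35 * 34 := by
    have h35' : Fintype.card (Sylow 17 G) = 35 := Nat.card_eq_fintype_card.symm.trans h35
    have e : D ≃ Σ x : Sylow 17 G, {y : Sylow 17 G // x ≠ y} :=
      { toFun := fun d => ⟨d.1.1, d.1.2, d.2⟩
        invFun := fun s => ⟨(s.1, s.2.1), s.2.2⟩
        left_inv := fun d => rfl
        right_inv := fun s => rfl }
    rw [Fintype.card_congr e, Fintype.card_sigma]
    simp [Fintype.card_subtype_compl, h35']
  haveI : Fact (Nat.Prime 3) := ⟨Nat.prime_three⟩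
  obtain ⟨⟨⟨x, y⟩, hxy⟩, hd⟩ := Equiv.Perm.exists_fixed_point_of_prime (p := 3) (n := 1)
    (by rw [hD]; norm_num) (σ := σ) (Equiv.ext fun d => hF3 d)
  exact hxy (congrArg (fun d : D => d.1.1) hd).symm

theorem false_of_faithful : False := by
  obtain ⟨P⟩ : Nonempty (Sylow 17 G) := inferInstance
  obtain ⟨k, hk, hPk⟩ := (Nat.dvd_prime_pow fact17.out).1 (card_le_sq h35 hfaith P)
  interval_cases k
  · have h1 : (P : Subgroup G) = ⊥ := Subgroup.card_eq_one.1 (by simpa using hPk)
    haveI : Subsingleton (Sylow 17 G) := ⟨fun A B => by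
      apply Sylow.ext
      have hA : Nat.card (A : Subgroup G) = 1 := by
        rw [A.card_eq_multiplicity, ← P.card_eq_multiplicity, h1, card_bot]
      have hB : Nat.card (B : Subgroup G) = 1 := by
        rw [B.card_eq_multiplicity, ← P.card_eq_multiplicity, h1, card_bot]
      rw [Subgroup.card_eq_one.1 hA, Subgroup.card_eq_one.1 hB]⟩
    have := Finite.card_le_one_iff_subsingleton.2 this
    omega
  · exact false_of_card_seventeen h35 hfaith P (by simpa using hPk)
  · exact card_sylow_ne_sq h35 hfaith P hPk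

omit h35 hfaith in
/-- No finite group has exactly 35 Sylow 17-subgroups. -/
theorem card_sylow_ne_thirtyFive : Nat.card (Sylow 17 G) ≠ 35 := by
  intro h35
  set K := (MulAction.toPermHom G (Sylow 17 G)).ker
  have hKfix : ∀ g ∈ K, ∀ Q : Sylow 17 G, g • Q = Q := fun g hg Q => DFunLike.congr_fun hg Q
  let π := QuotientGroup.mk' K
  have hπ : Function.Surjective π := QuotientGroup.mk'_surjective K
  let e : Sylow 17 G → Sylow 17 (G ⧸ K) := fun P => P.mapSurjective hπ
  have hequiv : ∀ (g : G) (P : Sylow 17 G), e (g • P) = π g • e P := by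
    intro g P
    apply Sylow.ext
    show ((MulAut.conj g • (P : Subgroup G)).map π) = MulAut.conj (π g) • ((P : Subgroup G).map π)
    ext y
    constructor
    · rintro ⟨_, ⟨z, hz, rfl⟩, rfl⟩
      exact ⟨π z, ⟨z, hz, rfl⟩, by simp⟩
    · rintro ⟨_, ⟨z, hz, rfl⟩, rfl⟩
      exact ⟨g * z * g⁻¹, ⟨z, hz, by simp⟩, by simp⟩
  have hinj : Function.Injective e := by
    intro P Q h
    apply Sylow.ext
    refine (eq_of_le_of_card_ge (fun x hx => ?_) ?_).symm
    · have h1 : π x ∈ (P : Subgroup G).map π := by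
        rw [show (P : Subgroup G).map π = (Q : Subgroup G).map π from congrArg Sylow.toSubgroup h]
        exact mem_map_of_mem _ hx
      obtain ⟨y, hy, hyx⟩ := h1
      have h2 : y⁻¹ * x ∈ K := QuotientGroup.eq.1 hyx
      have h3 : x • P = P := by
        rw [show x = y * (y⁻¹ * x) by group, mul_smul, hKfix _ h2, smul_self_of_mem hy]
      exact mem_of_fix_of_mem hx h3
    · rw [P.card_eq_multiplicity, Q.card_eq_multiplicity]
  have hsurj : Function.Surjective e := by
    intro S
    obtain ⟨P⟩ : Nonempty (Sylow 17 G) := inferInstance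
    obtain ⟨g, hg⟩ := MulAction.exists_smul_eq (G ⧸ K) (e P) S
    obtain ⟨g, rfl⟩ := hπ g
    exact ⟨g • P, (hequiv g P).trans hg⟩
  refine false_of_faithful (G := G ⧸ K)
    (by rw [← Nat.card_congr (Equiv.ofBijective e ⟨hinj, hsurj⟩), h35]) fun g hg => ?_
  obtain ⟨g, rfl⟩ := hπ g
  refine (QuotientGroup.eq_one_iff g).2 (Equiv.Perm.ext fun Q => ?_)
  exact hinj ((hequiv g Q).trans (hg (e Q)))

end CfsgLib.SylowThirtyFive
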